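import Cfsg.Agent.Linear.Mult.Killed

/-!
A certificate that a group has no stem extension by a prime `l`: a polycyclic presentation of a
Sylow `l`-subgroup, some further true relators, identities among the relators (products of
conjugates of relators which reduce freely to the empty word), and a linear certificate that in
every central extension by a group of order `l` the lifts can be adjusted to satisfy the
presentation, so that the preimage of the Sylow subgroup splits.

A letter `2 k` is the generator `k`, a letter `2 k + 1` its inverse.
-/

set_option autoImplicit false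

namespace Cfsg.Agent.H34.SylCert

/-- The data. -/
structure Cert where
  /-- The prime. -/
  l : ℕ
  /-- Length of the polycyclic series. -/
  n : ℕ
  /-- Number of generators. -/
  ng : ℕ
  /-- Power rules: `g i ^ l` as a word in later generators. -/
  pw : List (List ℕ)
  /-- Conjugation rules: `g i * g j * (g i)⁻¹` for `i < j` as a word in generators after `i`. -/
  cj : List (List (List ℕ))
  /-- Further relators. -/
  extra : List (List ℕ)
  /-- Identities among relators. -/
  syz : List (List (List ℕ × ℕ × Bool))
  /-- The coefficient vectors of the identities. -/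
  vecs : List (List ℕ)
  /-- Adjustment of the generators of the series. -/
  adj : List (List ℕ)
  /-- For each rule, the combination of identities it follows from. -/
  prf : List (List (ℕ × ℕ))

/-- Prepend a letter, cancelling it against the head. -/
def push (x : ℕ) : List ℕ → List ℕ
  | [] => [x]
  | y :: t => cond (Nat.beq y (Nat.xor x 1)) t (x :: y :: t)

/-- Free reduction. -/
def red (w : List ℕ) : List ℕ := w.foldr push []

/-- The inverse word. -/
def winv (w : List ℕ) : List ℕ := (w.map fun x => x ^^^ 1).reverse

/-- A positive word. -/
def pos (w : List ℕ) : List ℕ := w.map fun k => 2 * k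

namespace Cert

variable (C : Cert)

/-- Power rule relator. -/
def powWord (i : ℕ) : List ℕ := List.replicate C.l (2 * i) ++ winv (pos (C.pw.getD i []))

/-- Right side of a conjugation rule. -/
def cjRhs (i j : ℕ) : List ℕ := (C.cj.getD i []).getD (j - i - 1) []

/-- Conjugation rule relator. -/
def cjWord (i j : ℕ) : List ℕ := [2 * i, 2 * j, 2 * i + 1] ++ winv (pos (C.cjRhs i j))

/-- The rules. -/
def rules : List (List ℕ) :=
  (List.range C.n).flatMap fun i =>
    C.powWord i :: (List.range (C.n - i - 1)).map fun d => C.cjWord i (i + 1 + d)

/-- All relators. -/
def rels : List (List ℕ) := C.rules ++ C.extra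

/-- A relator. -/
def rel (r : ℕ) : List ℕ := C.rels.getD r []

/-- The relator or its inverse. -/
def relPow (r : ℕ) (s : Bool) : List ℕ := if s then C.rel r else winv (C.rel r)

/-- The word of an identity. -/
def syzWord (S : List (List ℕ × ℕ × Bool)) : List ℕ :=
  S.flatMap fun e => e.1 ++ (C.relPow e.2.1 e.2.2 ++ winv e.1)

/-- Sum of coefficient vectors, reduced modulo `l`. -/
def vaddMod (l : ℕ) : List ℕ → List ℕ → List ℕ
  | [], b => b
  | x :: t, [] => x :: t
  | x :: t, y :: u => (x + y) % l :: vaddMod l t u

/-- Sum of coefficient vectors. -/
def vadd (a b : List ℕ) : List ℕ := vaddMod C.l a b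

/-- A multiple of a coefficient vector. -/
def vscale (c : ℕ) (a : List ℕ) : List ℕ := a.map fun x => c * x % C.l

/-- A unit vector. -/
def unit (r : ℕ) : List ℕ := List.replicate r 0 ++ [1]

/-- Equality of coefficient vectors modulo `l`. -/
def veq (a b : List ℕ) : Bool :=
  (List.range C.rels.length).all fun r => a.getD r 0 % C.l == b.getD r 0 % C.l

/-- Coefficients of an identity. -/
def syzVec : List (List ℕ × ℕ × Bool) → List ℕ
  | [] => []
  | e :: t => C.vadd (C.vscale (if e.2.2 then 1 else C.l - 1) (unit e.2.1)) (syzVec t)

/-- Change of the value of a word under the adjustment. -/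
def adjVec : List ℕ → List ℕ
  | [] => []
  | x :: t => C.vadd (C.vscale (if x % 2 == 0 then 1 else C.l - 1) (C.adj.getD (x / 2) []))
      (adjVec t)

/-- A combination of identities. -/
def combVec : List (ℕ × ℕ) → List ℕ
  | [] => []
  | p :: t => C.vadd (C.vscale p.2 (C.vecs.getD p.1 [])) (combVec t)

/-- The rules only mention later generators. -/
def checkShape : Bool :=
  decide (C.n ≤ C.ng) && (List.range C.n).all fun i =>
    ((C.pw.getD i []).all fun k => decide (i < k ∧ k < C.n)) &&
      (List.range (C.n - i - 1)).all fun d =>
        (C.cjRhs i (i + 1 + d)).all fun k => decide (i < k ∧ k < C.n)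

/-- The identities hold in the free group. -/
def checkSyz : Bool :=
  C.syz.all fun S => (S.all fun e => decide (e.2.1 < C.rels.length)) &&
    (red (C.syzWord S)).isEmpty

/-- The coefficient vectors are those of the identities. -/
def checkVecs : Bool := C.vecs == C.syz.map C.syzVec

/-- Every rule holds after adjustment. -/
def checkTargets : Bool :=
  (List.range C.rules.length).all fun r =>
    C.veq (C.vadd (C.adjVec (C.rel r)) (unit r)) (C.combVec (C.prf.getD r []))

end Cert

/-- All checks. -/
def Cert.check (C : Cert) : Bool := C.checkShape && C.checkSyz && C.checkVecs && C.checkTargets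

end Cfsg.Agent.H34.SylCert
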