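import Cfsg.Agent.H34.SylCert.J3Data
import Cfsg.Agent.H34.SylCert.J3Sylow
import Cfsg.Agent.H44.J3.GensCheck

/-!
Checks of the data on coded matrices: the elements lie in 3·J₃, the relators are true, and the
Sylow subgroups have full order.
-/

set_option autoImplicit false
set_option maxRecDepth 100000

namespace Cfsg.Agent.H34.SylCert.J3

open Cfsg.Agent.H44.J3

/-- Membership by kernel-evaluated equality. -/
def memB (x : ℕ) : List ℕ → Bool
  | [] => false
  | y :: t => Nat.beq x y || memB x t

/-- No repetition. -/
def nodupB : List ℕ → Bool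
  | [] => true
  | x :: t => !memB x t && nodupB t

/-- An element of the list. -/
def elt (i : ℕ) : ℕ := (elements.getD i (0, 0, 0)).1

/-- Code of a letter. -/
def letter (P : List (ℕ × ℕ)) (x : ℕ) : ℕ :=
  if x % 2 == 0 then elt ((P.getD (x / 2) (0, 0)).1 - 1) else (P.getD (x / 2) (0, 0)).2

/-- The elements are generators or products of earlier elements. -/
noncomputable def elementsOK : Bool :=
  (List.range elements.length).all fun i =>
    if (elements.getD i (0, 0, 0)).2.1 == 0 then memB (elt i) (witGens.map fun p => p.1.1)
    else decide ((elements.getD i (0, 0, 0)).2.1 ≤ i ∧ 1 ≤ (elements.getD i (0, 0, 0)).2.2 ∧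
        (elements.getD i (0, 0, 0)).2.2 ≤ i) &&
      Nat.beq (elt i) (mulM (elt ((elements.getD i (0, 0, 0)).2.1 - 1))
        (elt ((elements.getD i (0, 0, 0)).2.2 - 1)))

/-- The inverses are right. -/
noncomputable def lettersOK (P : List (ℕ × ℕ)) : Bool :=
  (List.range P.length).all fun k =>
    decide (1 ≤ (P.getD k (0, 0)).1 ∧ (P.getD k (0, 0)).1 ≤ elements.length) &&
      invM (letter P (2 * k)) (letter P (2 * k + 1))

/-- Code of a word. -/
noncomputable def wordCode (P : List (ℕ × ℕ)) (w : List ℕ) : ℕ :=
  w.foldr (fun x acc => mulM (letter P x) acc) oneM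

/-- The relators are true. -/
noncomputable def relsOK (C : Cert) (P : List (ℕ × ℕ)) : Bool :=
  Nat.beq P.length C.ng && decide (C.n ≤ C.ng) &&
    C.rels.all fun w => (w.all fun x => decide (x < 2 * C.ng)) && Nat.beq (wordCode P w) oneM

/-- The Sylow subgroup has full order. -/
noncomputable def sylowOK (C : Cert) (P : List (ℕ × ℕ)) (S : List (ℕ × ℕ × ℕ)) : Bool :=
  Nat.beq S.length (C.l ^ C.n) && nodupB (S.map fun e => e.1) &&
    (List.range S.length).all fun i =>
      if i == 0 then Nat.beq (S.getD i (0, 0, 0)).1 oneM
      else decide ((S.getD i (0, 0, 0)).2.1 < i ∧ (S.getD i (0, 0, 0)).2.2 < C.n) &&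
        Nat.beq (S.getD i (0, 0, 0)).1
          (mulM (S.getD (S.getD i (0, 0, 0)).2.1 (0, 0, 0)).1
            (letter P (2 * (S.getD i (0, 0, 0)).2.2)))

theorem elements_ok : elementsOK = true := by decide +kernel

theorem lettersTwo_ok : lettersOK lettersTwo = true := by decide +kernel

theorem lettersThree_ok : lettersOK lettersThree = true := by decide +kernel

theorem relsTwo_ok : relsOK certTwo lettersTwo = true := by decide +kernel

theorem relsThree_ok : relsOK certThree lettersThree = true := by decide +kernel

theorem sylowTwo_ok : sylowOK certTwo lettersTwo sylowTwo = true := by decide +kernel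

theorem sylowThree_ok : sylowOK certThree lettersThree sylowThree = true := by decide +kernel

theorem certTwo_ok : certTwo.check = true := by decide +kernel

theorem certThree_ok : certThree.check = true := by decide +kernel

end Cfsg.Agent.H34.SylCert.J3
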