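import Cfsg.Agent.H34.SylCert.Sound
import Cfsg.Agent.H34.SylCert.J3Check
import Cfsg.Agent.H44.J3.Simple
import Cfsg.Agent.Linear.Mult.CentralQuot

/-!
3·J₃ has trivial multiplier, so the multiplier of J₃ is cyclic of order 3.
-/

set_option autoImplicit false

namespace Cfsg.Agent.H34.SylCert.J3

open Cfsg.Agent.H44.J3 Cfsg.Agent.Compute Cfsg.Agent.Linear.Mult
open Cfsg.Spor (F9)

attribute [local irreducible] validM invM mulM appM oneM wmul elements lettersTwo lettersThree

lemma memB_iff {x : ℕ} : ∀ {L : List ℕ}, memB x L = true ↔ x ∈ L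
  | [] => by simp [memB]
  | y :: t => by simp [memB, memB_iff (L := t), Nat.beq_eq]

lemma nodupB_spec : ∀ {L : List ℕ}, nodupB L = true → L.Nodup
  | [], _ => List.nodup_nil
  | x :: t, h => by
    simp only [nodupB, Bool.and_eq_true, Bool.not_eq_true'] at h
    refine List.nodup_cons.2 ⟨fun hx => ?_, nodupB_spec h.2⟩
    rw [memB_iff.2 hx] at h
    exact absurd h.1 (by simp)

universe u

section

variable {F : Type u} [Field F] [Fintype F] {ω : F} (hf : Four F ω)
include hf

lemma elt_spec : ∀ i < elements.length,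
    (snd hf).ok (elt i) ∧ (snd hf).den (elt i) ∈ Cfsg.Spor.threeJ3 F ω := by
  intro i
  induction i using Nat.strong_induction_on with
  | _ i ih =>
    intro hi
    have h := elements_ok
    simp only [elementsOK, List.all_eq_true, List.mem_range] at h
    have h1 := h i hi
    split at h1
    · rw [memB_iff] at h1
      obtain ⟨p, hp, he⟩ := List.mem_map.1 h1
      refine ⟨?_, gCode_mem_threeJ3 hf h1⟩
      obtain ⟨o, -⟩ := inT_sound hf cert_ok ((lall_iff _ _).1 witGens_ok p hp)
      rw [← he]; exact o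
    · simp only [Bool.and_eq_true, decide_eq_true_eq, Nat.beq_eq] at h1
      obtain ⟨⟨ha, hb, hb'⟩, he⟩ := h1
      rename_i hne
      have ha0 : (elements.getD i (0, 0, 0)).2.1 ≠ 0 := fun e => hne (by rw [e]; rfl)
      obtain ⟨oa, ma⟩ := ih ((elements.getD i (0, 0, 0)).2.1 - 1) (by omega) (by omega)
      obtain ⟨ob, mb⟩ := ih ((elements.getD i (0, 0, 0)).2.2 - 1) (by omega) (by omega)
      rw [he]
      exact ⟨(snd hf).ok_mul oa ob, ((snd hf).den_mul oa ob).symm ▸ mul_mem ma mb⟩

variable (P : List (ℕ × ℕ))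

omit hf in
/-- The generator as an element of 3·J₃. -/
noncomputable def gen (hf : Four F ω) (P : List (ℕ × ℕ)) (k : ℕ) : Cfsg.Spor.threeJ3 F ω :=
  open Classical in
  if h : (snd hf).den (letter P (2 * k)) ∈ Cfsg.Spor.threeJ3 F ω then ⟨_, h⟩ else 1

variable {P} (hP : lettersOK P = true)
include hP

lemma letter_spec {k : ℕ} (hk : k < P.length) :
    ((snd hf).ok (letter P (2 * k)) ∧ (snd hf).ok (letter P (2 * k + 1))) ∧
      (gen hf P k : GL F9 F) = (snd hf).den (letter P (2 * k)) ∧
      (gen hf P k : GL F9 F)⁻¹ = (snd hf).den (letter P (2 * k + 1)) := by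
  simp only [lettersOK, List.all_eq_true, List.mem_range, Bool.and_eq_true,
    decide_eq_true_eq] at hP
  obtain ⟨⟨h1, h2⟩, hinv⟩ := hP k hk
  obtain ⟨oa, ob, hab⟩ := (snd hf).okInv_sound hinv
  obtain ⟨-, hm⟩ := elt_spec hf ((P.getD k (0, 0)).1 - 1) (by omega)
  have he : letter P (2 * k) = elt ((P.getD k (0, 0)).1 - 1) := by simp [letter]
  rw [← he] at hm
  have hg : (gen hf P k : GL F9 F) = (snd hf).den (letter P (2 * k)) := by
    rw [gen, dif_pos hm]
  exact ⟨⟨oa, ob⟩, hg, by rw [hg]; exact hab.symm⟩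

omit hP in
lemma den_oneM : (snd hf).den oneM = 1 := (snd hf).den_one

omit hP in
lemma ok_oneM : (snd hf).ok oneM := (snd hf).ok_one

omit hP in
lemma den_mulM {a b : ℕ} (ha : (snd hf).ok a) (hb : (snd hf).ok b) :
    (snd hf).den (mulM a b) = (snd hf).den a * (snd hf).den b := (snd hf).den_mul ha hb

omit hP in
lemma ok_mulM {a b : ℕ} (ha : (snd hf).ok a) (hb : (snd hf).ok b) :
    (snd hf).ok (mulM a b) := (snd hf).ok_mul ha hb

omit hf hP in
lemma wordCode_nil : wordCode P [] = oneM := List.foldr_nil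

omit hf hP in
lemma wordCode_cons (x : ℕ) (w : List ℕ) :
    wordCode P (x :: w) = mulM (letter P x) (wordCode P w) := List.foldr_cons ..

lemma word_spec (w : List ℕ) : (∀ x ∈ w, x < 2 * P.length) →
    (snd hf).ok (wordCode P w) ∧
      ((val (gen hf P) w : Cfsg.Spor.threeJ3 F ω) : GL F9 F) = (snd hf).den (wordCode P w) := by
  induction w with
  | nil =>
    intro _
    rw [wordCode_nil, den_oneM hf, val_nil, Subgroup.coe_one]
    exact ⟨ok_oneM hf, rfl⟩
  | cons x w ih =>
    intro h
    obtain ⟨o, e⟩ := ih fun y hy => h y (List.mem_cons_of_mem _ hy)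
    have hx := h x (by simp)
    have hl : (snd hf).ok (letter P x) ∧
        ((lv (gen hf P) x : Cfsg.Spor.threeJ3 F ω) : GL F9 F) = (snd hf).den (letter P x) := by
      obtain ⟨k, rfl | rfl⟩ : ∃ k, x = 2 * k ∨ x = 2 * k + 1 := ⟨x / 2, by omega⟩
      · obtain ⟨⟨oa, -⟩, hg, -⟩ := letter_spec hf hP (k := k) (by omega)
        exact ⟨oa, by rw [lv_even, hg]⟩
      · obtain ⟨⟨-, ob⟩, -, hg⟩ := letter_spec hf hP (k := k) (by omega)
        exact ⟨ob, by rw [lv_odd, Subgroup.coe_inv, hg]⟩
    rw [wordCode_cons, den_mulM hf hl.1 o, val_cons, Subgroup.coe_mul, hl.2, e]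
    exact ⟨ok_mulM hf hl.1 o, rfl⟩

/-- A certificate with true relators and a full Sylow subgroup. -/
theorem noStem_of_data (C : Cert) (S : List (ℕ × ℕ × ℕ)) (hC : C.check = true)
    (hR : relsOK C P = true) (hS : sylowOK C P S = true) (hl : C.l.Prime)
    (hord : ¬ C.l ^ (C.n + 1) ∣ Nat.card (Cfsg.Spor.threeJ3 F ω)) :
    NoStem C.l (Cfsg.Spor.threeJ3 F ω) := by
  simp only [relsOK, Bool.and_eq_true, Nat.beq_eq, List.all_eq_true, decide_eq_true_eq] at hR
  obtain ⟨⟨hlen, hn⟩, hrels⟩ := hR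
  simp only [sylowOK, Bool.and_eq_true, Nat.beq_eq, List.all_eq_true, List.mem_range] at hS
  obtain ⟨⟨hSlen, hnd⟩, hSel⟩ := hS
  refine SylCert.noStem C hl hC (gen hf P) ?_ ?_ hord
  · intro w hw
    obtain ⟨hb, hone⟩ := hrels w hw
    obtain ⟨-, e⟩ := word_spec hf hP w (fun x hx => by rw [hlen]; exact hb x hx)
    refine Subtype.ext ?_
    rw [e, hone]
    exact den_oneM hf
  · let H := Subgroup.closure (tailGens (gen hf P) 0 C.n)
    have key : ∀ i < S.length, (snd hf).ok (S.getD i (0, 0, 0)).1 ∧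
        ∃ h ∈ H, (h : GL F9 F) = (snd hf).den (S.getD i (0, 0, 0)).1 := by
      intro i
      induction i using Nat.strong_induction_on with
      | _ i ih =>
        intro hi
        have h1 := hSel i hi
        split at h1
        · rw [Nat.beq_eq] at h1
          rw [h1]
          exact ⟨ok_oneM hf, 1, one_mem _, (den_oneM hf).symm⟩
        · simp only [Bool.and_eq_true, decide_eq_true_eq, Nat.beq_eq] at h1
          obtain ⟨⟨hp, hk⟩, he⟩ := h1
          obtain ⟨op, h, hh, hhe⟩ := ih _ hp (by omega)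
          obtain ⟨⟨og, -⟩, hg, -⟩ := letter_spec hf hP (k := (S.getD i (0, 0, 0)).2.2) (by omega)
          rw [he]
          refine ⟨ok_mulM hf op og, h * gen hf P (S.getD i (0, 0, 0)).2.2,
            mul_mem hh (Subgroup.subset_closure ⟨_, ⟨Nat.zero_le _, hk⟩, rfl⟩), ?_⟩
          rw [Subgroup.coe_mul, hhe, hg]
          exact (den_mulM hf op og).symm
    choose ok h hh he using key
    have : Finite (Cfsg.Spor.threeJ3 F ω) :=
      Nat.finite_of_card_ne_zero (by rw [card_threeJ3 hf]; norm_num)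
    let f : Fin S.length → ↥H := fun i => ⟨h i i.isLt, hh i i.isLt⟩
    have hinj : Function.Injective f := by
      intro i j e
      have e1 : h i i.isLt = h j j.isLt := congrArg Subtype.val e
      have e2 : (snd hf).den (S.getD i (0, 0, 0)).1 = (snd hf).den (S.getD j (0, 0, 0)).1 := by
        rw [← he i i.isLt, ← he j j.isLt, e1]
      have e3 := ((snd hf).eqv_iff (ok i i.isLt) (ok j j.isLt)).2 e2
      have e4 : (S.getD i (0, 0, 0)).1 = (S.getD j (0, 0, 0)).1 := Nat.eq_of_beq_eq_true e3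
      rw [List.getD_eq_getElem _ _ i.isLt, List.getD_eq_getElem _ _ j.isLt] at e4
      refine Fin.ext ((nodupB_spec hnd).getElem_inj_iff (hi := ?_) (hj := ?_) |>.1 ?_)
      · simp
      · simp
      · simpa using e4
    have := Nat.card_le_card_of_injective f hinj
    rwa [Nat.card_fin, hSlen] at this

end

/-- The multiplier of J₃. -/
theorem multiplier_J3 {F : Type u} [Field F] [Fintype F] {ω : F} (hf : Four F ω) :
    Cfsg.HasCyclicSchurMultiplier (Cfsg.Spor.J3 F ω) 3 := by
  have : Finite (Cfsg.Spor.threeJ3 F ω) :=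
    Nat.finite_of_card_ne_zero (by rw [card_threeJ3 hf]; norm_num)
  have hcard : Nat.card (Cfsg.Spor.threeJ3 F ω) = 150698880 := card_threeJ3 hf
  have h1 : Cfsg.HasCyclicSchurMultiplier (Cfsg.Spor.threeJ3 F ω) 1 := by
    refine hasTrivialMultiplier_of_noStem fun l hl => ?_
    by_cases h2 : l = 2
    · subst h2
      exact noStem_of_data hf lettersTwo_ok certTwo sylowTwo certTwo_ok relsTwo_ok sylowTwo_ok
        Nat.prime_two (by rw [hcard]; decide +kernel)
    by_cases h3 : l = 3
    · subst h3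
      exact noStem_of_data hf lettersThree_ok certThree sylowThree certThree_ok relsThree_ok
        sylowThree_ok Nat.prime_three (by rw [hcard]; decide +kernel)
    refine noStem_of_not_sq_dvd hl fun hd => ?_
    rw [hcard, show 150698880 = 2 ^ 7 * (3 ^ 6 * 1615) by norm_num] at hd
    have c2 : Nat.Coprime (l ^ 2) (2 ^ 7) :=
      Nat.Coprime.pow 2 7 ((Nat.coprime_primes hl Nat.prime_two).2 h2)
    have c3 : Nat.Coprime (l ^ 2) (3 ^ 6) :=
      Nat.Coprime.pow 2 6 ((Nat.coprime_primes hl Nat.prime_three).2 h3)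
    have hdm := c3.dvd_of_dvd_mul_left (c2.dvd_of_dvd_mul_left hd)
    have hle := Nat.le_of_dvd (by norm_num) hdm
    have hl41 : l < 41 := by nlinarith
    have key : ∀ m < 41, 2 ≤ m → ¬ m ^ 2 ∣ 1615 := by decide +kernel
    exact key l hl41 hl.two_le hdm
  refine hasCyclicSchurMultiplier_of_cover ?_ h1
    (QuotientGroup.mk' (Subgroup.center (Cfsg.Spor.threeJ3 F ω)))
    (QuotientGroup.mk'_surjective _) (QuotientGroup.ker_mk' _).le ?_ ?_
  · exact H74.Schur.isPerfect_iff.2 (commutator_eq_top hf)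
  · rw [QuotientGroup.ker_mk']
    have : Fact (Nat.Prime 3) := ⟨Nat.prime_three⟩
    exact isCyclic_of_prime_card (p := 3) (card_center hf)
  · rw [QuotientGroup.ker_mk']
    exact card_center hf

end Cfsg.Agent.H34.SylCert.J3
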