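import Cfsg.Agent.H34.SylCert.Sound

/-!
A lower bound for the order of a subgroup given by a series, from separating each generator from
the group of the later ones by a finite closed set.
-/

set_option autoImplicit false

namespace Cfsg.Agent.H34.SylCert

universe u v

lemma card_mul_le_of_power {G : Type u} [Group G] [Finite G] {g : G} {B A : Subgroup G} {l : ℕ}
    (hl : l.Prime) (hg : g ∉ B) (hp : g ^ l ∈ B) (hgA : g ∈ A) (hBA : B ≤ A) :
    l * Nat.card ↥B ≤ Nat.card ↥A := by
  let f : Fin l × ↥B → ↥A := fun p =>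
    ⟨g ^ (p.1 : ℕ) * p.2, mul_mem (pow_mem hgA _) (hBA p.2.2)⟩
  have hf : Function.Injective f := by
    have key : ∀ (i j : Fin l) (b c : ↥B), (i : ℕ) ≤ j →
        g ^ (i : ℕ) * (b : G) = g ^ (j : ℕ) * c → i = j := by
      intro i j b c hij h
      by_contra hne
      have hne' : (i : ℕ) ≠ j := fun e => hne (Fin.ext e)
      have hd : g ^ ((j : ℕ) - i) ∈ B := by
        have e : (b : G) = g ^ ((j : ℕ) - i) * c := by
          have e2 : g ^ (i : ℕ) * (b : G) = g ^ (i : ℕ) * (g ^ ((j : ℕ) - i) * c) := by
            rw [h, ← mul_assoc, ← pow_add, Nat.add_sub_cancel' hij]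
          exact mul_left_cancel e2
        have e3 : g ^ ((j : ℕ) - i) = (b : G) * (c : G)⁻¹ := by rw [e, mul_inv_cancel_right]
        rw [e3]
        exact mul_mem b.2 (inv_mem c.2)
      have hco : ((j : ℕ) - i).Coprime l := Nat.Coprime.symm
        (hl.coprime_iff_not_dvd.2 (Nat.not_dvd_of_pos_of_lt (by omega) (by omega)))
      obtain ⟨m, hm⟩ := Nat.exists_mul_mod_eq_one_of_coprime hco hl.one_lt
      refine hg ?_
      have : g ^ (((j : ℕ) - i) * m) = g * (g ^ l) ^ (((j : ℕ) - i) * m / l) := by
        rw [← pow_mul, ← pow_succ']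
        congr 1
        have := Nat.mod_add_div (((j : ℕ) - i) * m) l
        rw [hm.2] at this
        omega
      have hmem : g ^ (((j : ℕ) - i) * m) ∈ B := by rw [pow_mul]; exact pow_mem hd _
      rw [this] at hmem
      exact (Subgroup.mul_mem_cancel_right B (pow_mem hp _)).1 hmem
    rintro ⟨i, b⟩ ⟨j, c⟩ h
    have h' : g ^ (i : ℕ) * (b : G) = g ^ (j : ℕ) * c := congrArg Subtype.val h
    have hij : i = j := by
      rcases le_total (i : ℕ) j with e | e
      · exact key i j b c e h'
      · exact (key j i c b e h'.symm).symm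
    subst hij
    exact Prod.ext rfl (Subtype.ext (mul_left_cancel h'))
  have := Nat.card_le_card_of_injective f hf
  rwa [Nat.card_prod, Nat.card_fin] at this

/-- Elements mapping a finite set to itself form a subgroup. -/
lemma not_mem_closure_of_orbit {G : Type u} [Group G] [Finite G] {α : Type v} (act : G → α → α)
    (hone : ∀ a, act 1 a = a) (hmul : ∀ g h a, act (g * h) a = act g (act h a)) (s : Set G)
    (O : List α) (hs : ∀ g ∈ s, ∀ a ∈ O, act g a ∈ O) {x : G} {a : α} (ha : a ∈ O)
    (hx : act x a ∉ O) : x ∉ Subgroup.closure s := by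
  intro h
  refine hx ?_
  have hmem : x ∈ Submonoid.closure s := by
    rw [← Subgroup.closure_toSubmonoid_of_finite]; exact h
  clear hx h
  induction hmem using Submonoid.closure_induction generalizing a with
  | mem g hg => exact hs g hg a ha
  | one => rwa [hone]
  | mul g h _ _ ihg ihh => rw [hmul]; exact ihg (ihh ha)

theorem card_series_ge {G : Type u} [Group G] [Finite G] (C : Cert) (hl : C.l.Prime)
    (hc : C.checkShape = true) (g : ℕ → G) (hrel : ∀ w ∈ C.rules, val g w = 1)
    (hsep : ∀ i < C.n, g i ∉ Subgroup.closure (tailGens g (i + 1) C.n)) :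
    C.l ^ C.n ≤ Nat.card ↥(Subgroup.closure (tailGens g 0 C.n)) := by
  simp only [Cert.checkShape, Bool.and_eq_true, List.all_eq_true, List.mem_range,
    decide_eq_true_eq] at hc
  have key : ∀ k ≤ C.n, C.l ^ k ≤
      Nat.card ↥(Subgroup.closure (tailGens g (C.n - k) C.n)) := by
    intro k
    induction k with
    | zero => intro _; rw [pow_zero]; exact Nat.card_pos
    | succ k ih =>
      intro hk
      have h := ih (by omega)
      set i := C.n - (k + 1) with hi
      rw [show C.n - k = i + 1 by omega] at h
      have hp : g i ^ C.l ∈ Subgroup.closure (tailGens g (i + 1) C.n) := by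
        have hw := hrel (C.powWord i)
          (List.mem_flatMap.2 ⟨i, List.mem_range.2 (by omega), List.mem_cons_self⟩)
        rw [Cert.powWord, val_append, val_winv, mul_inv_eq_one, val_replicate] at hw
        rw [hw]
        exact val_pos_mem g (hc.2 i (by omega)).1
      calc C.l ^ (k + 1) ≤ C.l * Nat.card ↥(Subgroup.closure (tailGens g (i + 1) C.n)) := by
            rw [pow_succ']; exact Nat.mul_le_mul_left _ h
        _ ≤ _ := card_mul_le_of_power hl (hsep i (by omega)) hp
            (Subgroup.subset_closure (Set.mem_image_of_mem g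
              (show i ∈ {j | i ≤ j ∧ j < C.n} from ⟨le_rfl, by omega⟩)))
            (Subgroup.closure_mono (Set.image_mono (show {j | i + 1 ≤ j ∧ j < C.n} ⊆ {j | i ≤ j ∧ j < C.n}
              from fun j hj => ⟨(Nat.le_succ i).trans hj.1, hj.2⟩)))
  have := key C.n le_rfl
  rwa [Nat.sub_self] at this

end Cfsg.Agent.H34.SylCert
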