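import Cfsg.Agent.H34.SylCert.Cert

/-!
Soundness: a checked certificate whose relators hold in a group excludes stem extensions by `l`.
-/

set_option autoImplicit false

namespace Cfsg.Agent.H34.SylCert

open Cfsg.Agent.Linear.Mult

universe u v

lemma two_mul_xor_one (l : ℕ) : (2 * l) ^^^ 1 = 2 * l + 1 := by
  apply Nat.eq_of_testBit_eq
  intro k
  rw [Nat.testBit_xor]
  cases k with
  | zero => simp [Nat.testBit_zero]
  | succ k =>
    have h1 : (1 : ℕ).testBit (k + 1) = false := by simp [Nat.testBit_succ]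
    rw [h1, Nat.testBit_succ, Nat.testBit_succ]
    have e1 : 2 * l / 2 = l := by omega
    have e2 : (2 * l + 1) / 2 = l := by omega
    rw [e1, e2, Bool.xor_false]

lemma two_mul_succ_xor_one (l : ℕ) : (2 * l + 1) ^^^ 1 = 2 * l := by
  rw [← two_mul_xor_one, Nat.xor_assoc, Nat.xor_self, Nat.xor_zero]

section Words

variable {X : Type u} [Group X]

/-- Value of a letter. -/
def lv (L : ℕ → X) (x : ℕ) : X := if x % 2 = 0 then L (x / 2) else (L (x / 2))⁻¹

/-- Value of a word. -/
def val (L : ℕ → X) (w : List ℕ) : X := (w.map (lv L)).prod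

lemma lv_even (L : ℕ → X) (l : ℕ) : lv L (2 * l) = L l := by simp [lv]

lemma lv_odd (L : ℕ → X) (l : ℕ) : lv L (2 * l + 1) = (L l)⁻¹ := by
  simp [lv, Nat.add_mod, show (2 * l + 1) / 2 = l by omega]

lemma lv_xor (L : ℕ → X) (x : ℕ) : lv L (x ^^^ 1) = (lv L x)⁻¹ := by
  obtain ⟨l, rfl | rfl⟩ : ∃ l, x = 2 * l ∨ x = 2 * l + 1 := ⟨x / 2, by omega⟩
  · rw [two_mul_xor_one, lv_even, lv_odd]
  · rw [two_mul_succ_xor_one, lv_even, lv_odd, inv_inv]

lemma val_nil (L : ℕ → X) : val L [] = 1 := rfl

lemma val_append (L : ℕ → X) (u w : List ℕ) : val L (u ++ w) = val L u * val L w := by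
  simp [val]

lemma val_cons (L : ℕ → X) (x : ℕ) (w : List ℕ) : val L (x :: w) = lv L x * val L w := by
  simp [val]

lemma val_winv (L : ℕ → X) : ∀ w : List ℕ, val L (winv w) = (val L w)⁻¹
  | [] => by simp [winv, val]
  | x :: w => by
    have h : winv (x :: w) = winv w ++ [x ^^^ 1] := by simp [winv]
    rw [h, val_append, val_winv L w, val_cons L x w, _root_.mul_inv_rev]
    simp [val, lv_xor]

lemma val_push (L : ℕ → X) (x : ℕ) : ∀ w : List ℕ, val L (push x w) = lv L x * val L w
  | [] => val_cons L x []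
  | y :: t => by
    rw [push]
    rcases h : Nat.beq y (Nat.xor x 1) with _ | _
    · rw [cond_false, val_cons]
    · rw [cond_true, val_cons, Nat.eq_of_beq_eq_true h, show Nat.xor x 1 = x ^^^ 1 from rfl,
        lv_xor, mul_inv_cancel_left]

lemma val_red (L : ℕ → X) : ∀ w : List ℕ, val L (red w) = val L w
  | [] => rfl
  | x :: w => by
    rw [red, List.foldr_cons, val_push, val_cons]
    exact congrArg _ (val_red L w)

lemma val_map {Y : Type v} [Group Y] (f : X →* Y) (L : ℕ → X) (w : List ℕ) :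
    f (val L w) = val (fun k => f (L k)) w := by
  simp only [val, map_list_prod, List.map_map]
  refine congrArg List.prod (List.map_congr_left fun x _ => ?_)
  simp only [Function.comp, lv]
  split <;> simp

lemma val_replicate (L : ℕ → X) (i : ℕ) : ∀ m, val L (List.replicate m (2 * i)) = L i ^ m
  | 0 => by simp [val]
  | m + 1 => by rw [List.replicate_succ, val_cons, val_replicate L i m, lv_even, pow_succ']

end Words

lemma comm_mul_central {X : Type u} [Group X] {a b z z' : X} (hz : ∀ x, x * z = z * x)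
    (hz' : ∀ x, x * z' = z' * x) :
    a * z * (b * z') * (a * z)⁻¹ * (b * z')⁻¹ = a * b * a⁻¹ * b⁻¹ := by
  have h1 : a * z * (b * z') * (a * z)⁻¹ = a * (b * z') * a⁻¹ := by
    rw [_root_.mul_inv_rev, mul_assoc a z, ← hz (b * z')]; group
  rw [h1, _root_.mul_inv_rev, ← mul_assoc a b z', mul_assoc (a * b) z' a⁻¹, ← hz' a⁻¹]
  group

namespace Cert

variable (C : Cert)

/-- Value of a coefficient vector. -/
def ev {l : ℕ} (x : ℕ → ZMod l) (v : List ℕ) : ZMod l :=
  ∑ r ∈ Finset.range C.rels.length, (v.getD r 0 : ZMod l) * x r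

lemma cast_getD_vaddMod (l : ℕ) : ∀ (a b : List ℕ) (r : ℕ),
    (((vaddMod l a b).getD r 0 : ℕ) : ZMod l) = (a.getD r 0 : ℕ) + (b.getD r 0 : ℕ)
  | [], b, r => by simp [vaddMod]
  | x :: t, [], r => by simp [vaddMod]
  | x :: t, y :: u, 0 => by simp [vaddMod]
  | x :: t, y :: u, r + 1 => by
    simpa [vaddMod] using cast_getD_vaddMod l t u r

lemma ev_vadd (x : ℕ → ZMod C.l) (a b : List ℕ) :
    C.ev x (C.vadd a b) = C.ev x a + C.ev x b := by
  unfold ev vadd
  rw [← Finset.sum_add_distrib]
  exact Finset.sum_congr rfl fun r _ => by rw [cast_getD_vaddMod, add_mul]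

lemma cast_getD_vscale (l c : ℕ) : ∀ (a : List ℕ) (r : ℕ),
    (((a.map fun x => c * x % l).getD r 0 : ℕ) : ZMod l) = c * (a.getD r 0 : ℕ)
  | [], r => by simp
  | y :: t, 0 => by simp
  | y :: t, r + 1 => by simpa using cast_getD_vscale l c t r

lemma ev_vscale (x : ℕ → ZMod C.l) (c : ℕ) (a : List ℕ) :
    C.ev x (C.vscale c a) = (c : ZMod C.l) * C.ev x a := by
  unfold ev vscale
  rw [Finset.mul_sum]
  exact Finset.sum_congr rfl fun r _ => by rw [cast_getD_vscale, mul_assoc]

lemma ev_congr (x : ℕ → ZMod C.l) {a b : List ℕ} (h : C.veq a b = true) :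
    C.ev x a = C.ev x b := by
  simp only [veq, List.all_eq_true, List.mem_range, beq_iff_eq] at h
  refine Finset.sum_congr rfl fun r hr => ?_
  rw [← ZMod.natCast_mod, h r (Finset.mem_range.1 hr), ZMod.natCast_mod]

lemma ev_nil {l : ℕ} (x : ℕ → ZMod l) : C.ev x [] = 0 := by simp [ev]

lemma getD_unit : ∀ r k : ℕ, (List.replicate r 0 ++ [1]).getD k 0 = if k = r then 1 else 0
  | 0, 0 => rfl
  | 0, k + 1 => by simp
  | r + 1, 0 => by simp [List.replicate_succ]
  | r + 1, k + 1 => by simpa [List.replicate_succ] using getD_unit r k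

lemma ev_unit (x : ℕ → ZMod C.l) {r : ℕ} (hr : r < C.rels.length) :
    C.ev x (unit r) = x r := by
  unfold ev unit
  rw [Finset.sum_eq_single r]
  · rw [getD_unit, if_pos rfl, Nat.cast_one, one_mul]
  · intro k _ hne
    rw [getD_unit, if_neg hne, Nat.cast_zero, zero_mul]
  · exact fun h => absurd (Finset.mem_range.2 hr) h

end Cert

lemma normal_step {X : Type u} [Group X] [Finite X] {g : X} {B : Subgroup X} {l : ℕ} (hl : 0 < l)
    (hn : ∀ b ∈ B, g * b * g⁻¹ ∈ B) (hp : g ^ l ∈ B) :
    Nat.card ↥(Subgroup.zpowers g ⊔ B) ≤ l * Nat.card ↥B := by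
  have hmap : B.map (MulAut.conj g).toMonoidHom = B := by
    refine Subgroup.eq_of_le_of_card_ge (Subgroup.map_le_iff_le_comap.2 fun b hb => hn b hb) ?_
    rw [Subgroup.card_map_of_injective (MulAut.conj g).injective]
  have hnorm : Subgroup.zpowers g ≤ Subgroup.normalizer (B : Set X) := by
    rw [Subgroup.zpowers_le, Subgroup.mem_normalizer_iff]
    intro b
    refine ⟨fun hb => hn b hb, fun hb => ?_⟩
    rw [← hmap] at hb
    obtain ⟨c, hc, he⟩ := hb
    rwa [← (MulAut.conj g).injective (a₁ := c) (a₂ := b) he]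
  let f : Fin l × ↥B → X := fun p => g ^ (p.1 : ℕ) * p.2
  have hsurj : ((Subgroup.zpowers g ⊔ B : Subgroup X) : Set X) ⊆ Set.range f := by
    intro x hx
    rw [Subgroup.coe_mul_of_left_le_normalizer_right _ _ hnorm] at hx
    obtain ⟨a, ha, b, hb, rfl⟩ := hx
    obtain ⟨m, rfl⟩ := Submonoid.mem_powers_iff _ _ |>.1
      ((mem_powers_iff_mem_zpowers).2 ha)
    refine ⟨(⟨m % l, Nat.mod_lt _ hl⟩, ⟨(g ^ l) ^ (m / l) * b,
      mul_mem (pow_mem hp _) hb⟩), ?_⟩
    simp only [f]
    rw [← mul_assoc, ← pow_mul, ← pow_add, Nat.mod_add_div]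
  have h1 : Set.ncard ((Subgroup.zpowers g ⊔ B : Subgroup X) : Set X) ≤ (Set.range f).ncard :=
    Set.ncard_le_ncard hsurj (Set.toFinite _)
  calc Nat.card ↥(Subgroup.zpowers g ⊔ B)
      = Set.ncard ((Subgroup.zpowers g ⊔ B : Subgroup X) : Set X) :=
        (Nat.card_coe_set_eq _)
    _ ≤ (Set.range f).ncard := h1
    _ ≤ Nat.card (Fin l × ↥B) := by
        rw [← Nat.card_coe_set_eq]; exact Finite.card_range_le f
    _ = l * Nat.card ↥B := by rw [Nat.card_prod, Nat.card_fin]

section Main

variable {G : Type u} [Group G]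

/-- The generators of the series from index `i` on. -/
def tailGens {X : Type v} (L : ℕ → X) (i n : ℕ) : Set X := L '' {j | i ≤ j ∧ j < n}

lemma val_pos_mem {X : Type v} [Group X] (L : ℕ → X) {i n : ℕ} :
    ∀ {w : List ℕ}, (∀ k ∈ w, i ≤ k ∧ k < n) →
      val L (pos w) ∈ Subgroup.closure (tailGens L i n)
  | [], _ => one_mem _
  | k :: w, h => by
    rw [show pos (k :: w) = 2 * k :: pos w from rfl, val_cons, lv_even]
    exact mul_mem (Subgroup.subset_closure ⟨k, h k (by simp), rfl⟩)
      (val_pos_mem L fun j hj => h j (List.mem_cons_of_mem _ hj))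

theorem card_series_le {X : Type v} [Group X] [Finite X] (C : Cert) (hl : 0 < C.l)
    (hs : C.checkShape = true) (L : ℕ → X) (hrel : ∀ w ∈ C.rules, val L w = 1) :
    ∀ k, k ≤ C.n →
      Nat.card ↥(Subgroup.closure (tailGens L (C.n - k) C.n)) ≤ C.l ^ k := by
  intro k
  induction k with
  | zero =>
    intro _
    have : tailGens L (C.n - 0) C.n = ∅ := by
      ext x
      simp only [tailGens, Set.mem_image, Set.mem_empty_iff_false, iff_false, Nat.sub_zero]
      rintro ⟨j, hj, -⟩
      have := hj.1; have := hj.2; omega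
    rw [this, Subgroup.closure_empty, Subgroup.card_bot, pow_zero]
  | succ k ih =>
    intro hk
    have ih' := ih (by omega)
    set i := C.n - (k + 1) with hi
    rw [show C.n - k = i + 1 by omega] at ih'
    set B := Subgroup.closure (tailGens L (i + 1) C.n) with hB
    simp only [Cert.checkShape, Bool.and_eq_true, List.all_eq_true, List.mem_range,
      decide_eq_true_eq] at hs
    obtain ⟨hpw, hcj⟩ := hs.2 i (by omega)
    have hmem : ∀ w, w = C.powWord i ∨ (∃ d < C.n - i - 1, w = C.cjWord i (i + 1 + d)) →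
        val L w = 1 := by
      intro w hw
      refine hrel w (List.mem_flatMap.2 ⟨i, List.mem_range.2 (by omega), ?_⟩)
      rcases hw with rfl | ⟨d, hd, rfl⟩
      · exact List.mem_cons_self
      · exact List.mem_cons_of_mem _ (List.mem_map.2 ⟨d, List.mem_range.2 hd, rfl⟩)
    have hp : L i ^ C.l ∈ B := by
      have h := hmem _ (Or.inl rfl)
      rw [Cert.powWord, val_append, val_winv, mul_inv_eq_one, val_replicate] at h
      rw [h]
      exact val_pos_mem L hpw
    have hn : ∀ b ∈ B, L i * b * (L i)⁻¹ ∈ B := by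
      have : B ≤ B.comap (MulAut.conj (L i)).toMonoidHom := by
        rw [hB, Subgroup.closure_le]
        rintro _ ⟨j, hj, rfl⟩
        obtain ⟨hj1, hj2⟩ := hj
        have h := hmem _ (Or.inr ⟨j - i - 1, by omega, rfl⟩)
        rw [show i + 1 + (j - i - 1) = j by omega, Cert.cjWord, val_append, val_winv,
          mul_inv_eq_one] at h
        show L i * L j * (L i)⁻¹ ∈ B
        have h' : L i * L j * (L i)⁻¹ = val L (pos (C.cjRhs i j)) := by
          rw [← h]
          simp [val_cons, val_nil, lv_even, lv_odd, mul_assoc]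
        rw [h']
        have hc := hcj (j - i - 1) (by omega)
        rw [show i + 1 + (j - i - 1) = j by omega] at hc
        exact val_pos_mem L hc
      exact fun b hb => this hb
    have hle : Subgroup.closure (tailGens L i C.n) ≤ Subgroup.zpowers (L i) ⊔ B := by
      rw [Subgroup.closure_le]
      rintro _ ⟨j, hj, rfl⟩
      rcases Nat.eq_or_lt_of_le hj.1 with rfl | h
      · exact Subgroup.mem_sup_left (Subgroup.mem_zpowers _)
      · exact Subgroup.mem_sup_right (Subgroup.subset_closure ⟨j, ⟨h, hj.2⟩, rfl⟩)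
    calc _ ≤ Nat.card ↥(Subgroup.zpowers (L i) ⊔ B) := Subgroup.card_le_of_le hle
      _ ≤ C.l * Nat.card ↥B := normal_step hl hn hp
      _ ≤ C.l * C.l ^ k := Nat.mul_le_mul_left _ ih'
      _ = C.l ^ (k + 1) := by rw [pow_succ']

/-- A checked certificate excludes stem extensions by `l`. -/
theorem noStem [Finite G] (C : Cert) (hl : C.l.Prime) (hc : C.check = true) (g : ℕ → G)
    (hrel : ∀ w ∈ C.rels, val g w = 1)
    (hlow : C.l ^ C.n ≤ Nat.card ↥(Subgroup.closure (tailGens g 0 C.n)))
    (hord : ¬ C.l ^ (C.n + 1) ∣ Nat.card G) : NoStem C.l G := by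
  simp only [Cert.check, Bool.and_eq_true] at hc
  obtain ⟨⟨⟨hshape, hsyz⟩, hvecs⟩, htar⟩ := hc
  simp only [Cert.checkVecs, beq_iff_eq] at hvecs
  simp only [Cert.checkSyz, Bool.and_eq_true, List.all_eq_true, decide_eq_true_eq,
    List.isEmpty_iff] at hsyz
  simp only [Cert.checkTargets, List.all_eq_true, List.mem_range] at htar
  refine noStem_of_killed hl fun Γ _ _ E => ?_
  have := Fact.mk hl
  obtain ⟨z, hz⟩ := exists_prime_orderOf_dvd_card' (G := E.proj.ker) C.l (by rw [E.card_ker])
  have hzo : orderOf (z : Γ) = C.l := by rw [Subgroup.orderOf_coe, hz]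
  have hmod : ∀ m : ℕ, (z : Γ) ^ (m % C.l) = (z : Γ) ^ m := fun m => by
    have h := pow_mod_orderOf (z : Γ) m; rwa [hzo] at h
  have hzmod : ∀ m : ℤ, (z : Γ) ^ (m % (C.l : ℤ)) = (z : Γ) ^ m := fun m => by
    have h := zpow_mod_orderOf (z : Γ) m; rwa [hzo] at h
  let c : ZMod C.l → Γ := fun a => (z : Γ) ^ a.val
  have c_add : ∀ a b, c (a + b) = c a * c b := fun a b => by
    simp only [c]
    rw [← pow_add, ZMod.val_add, hmod]
  have c_zero : c 0 = 1 := by simp [c]
  have c_inj : ∀ a, c a = 1 → a = 0 := fun a h => by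
    have h1 := orderOf_dvd_of_pow_eq_one h
    rw [hzo] at h1
    exact (ZMod.val_eq_zero a).1 (Nat.eq_zero_of_dvd_of_lt h1 (ZMod.val_lt a))
  have c_ker : ∀ a, E.proj (c a) = 1 := fun a => by
    simp only [c]
    rw [map_pow, z.2, one_pow]
  have c_comm : ∀ a y, y * c a = c a * y := fun a y => E.ker_central (c_ker a) y
  have c_neg : ∀ a, (c a)⁻¹ = c (-a) := fun a =>
    inv_eq_of_mul_eq_one_right (by rw [← c_add, add_neg_cancel, c_zero])
  have c_surj : ∀ y, E.proj y = 1 → ∃ a, c a = y := by
    intro y hy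
    have htop : Subgroup.zpowers z = ⊤ :=
      zpowers_eq_top_of_prime_card E.card_ker fun e => by
        rw [e, orderOf_one] at hz; exact hl.one_lt.ne hz
    obtain ⟨i, hi⟩ := Subgroup.mem_zpowers_iff.1
      (htop ▸ Subgroup.mem_top (⟨y, hy⟩ : E.proj.ker))
    refine ⟨(i : ZMod C.l), ?_⟩
    simp only [c]
    rw [show y = (z : Γ) ^ i from (congrArg Subtype.val hi).symm.trans
      (SubgroupClass.coe_zpow _ _), ← zpow_natCast, ZMod.val_intCast, hzmod]
  let L : ℕ → Γ := fun k => E.lift (g k)
  have hval : ∀ w, E.proj (val L w) = val g w := fun w => by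
    rw [val_map]; simp [L, E.proj_lift]
  have hx : ∀ r, ∃ a, c a = val L (C.rel r) := fun r => c_surj _ (by
    rw [hval]
    by_cases hr : r < C.rels.length
    · exact hrel _ (by rw [Cert.rel, List.getD_eq_getElem _ _ hr]; exact List.getElem_mem _)
    · rw [Cert.rel, List.getD_eq_default _ _ (by omega)]; rfl)
  choose x hx using hx
  have hsyz0 : ∀ S ∈ C.syz, C.ev x (C.syzVec S) = 0 := by
    intro S hS
    obtain ⟨hb, hred⟩ := hsyz S hS
    refine c_inj _ ?_
    have key : ∀ T : List (List ℕ × ℕ × Bool), (∀ e ∈ T, e.2.1 < C.rels.length) →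
        val L (C.syzWord T) = c (C.ev x (C.syzVec T)) := by
      intro T
      induction T with
      | nil => intro _; rw [Cert.syzVec, Cert.ev_nil, c_zero]; rfl
      | cons e t ih =>
        intro hT
        have hr := hT e (by simp)
        rw [show C.syzWord (e :: t)
            = (e.1 ++ (C.relPow e.2.1 e.2.2 ++ winv e.1)) ++ C.syzWord t from rfl,
          val_append, val_append, val_append, val_winv, ih fun f hf => hT f (List.mem_cons_of_mem _ hf),
          Cert.syzVec, Cert.ev_vadd, Cert.ev_vscale, C.ev_unit x hr, c_add]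
        congr 1
        have hrp : val L (C.relPow e.2.1 e.2.2)
            = c (((if e.2.2 then 1 else C.l - 1 : ℕ) : ZMod C.l) * x e.2.1) := by
          rcases e.2.2 with _ | _
          · simp only [Cert.relPow, Bool.false_eq_true, if_false]
            rw [val_winv, ← hx, c_neg, Nat.cast_sub hl.one_le, ZMod.natCast_self]
            simp
          · simp only [Cert.relPow, if_true]
            rw [← hx]
            simp
        rw [hrp, ← mul_assoc, c_comm, mul_assoc, mul_inv_cancel, mul_one]
    rw [← key S hb, ← val_red, hred]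
    rfl
  have hcomb : ∀ p, C.ev x (C.combVec p) = 0 := by
    intro p
    induction p with
    | nil => exact C.ev_nil x
    | cons q t ih =>
      rw [Cert.combVec, Cert.ev_vadd, Cert.ev_vscale, ih, add_zero]
      by_cases hq : q.1 < C.vecs.length
      · have hm : C.vecs[q.1] ∈ C.syz.map C.syzVec := hvecs ▸ List.getElem_mem hq
        obtain ⟨S, hS, he⟩ := List.mem_map.1 hm
        rw [List.getD_eq_getElem _ _ hq, ← he, hsyz0 S hS, mul_zero]
      · rw [List.getD_eq_default _ _ (by omega), Cert.ev_nil, mul_zero]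
  let L' : ℕ → Γ := fun k => c (C.ev x (C.adj.getD k [])) * L k
  have hadj : ∀ w, val L' w = c (C.ev x (C.adjVec w)) * val L w := by
    intro w
    induction w with
    | nil => rw [Cert.adjVec, Cert.ev_nil, c_zero, one_mul]; rfl
    | cons y t ih =>
      have hy : lv L' y
          = c (((if y % 2 == 0 then 1 else C.l - 1 : ℕ) : ZMod C.l)
              * C.ev x (C.adj.getD (y / 2) [])) * lv L y := by
        obtain ⟨k, rfl | rfl⟩ : ∃ k, y = 2 * k ∨ y = 2 * k + 1 := ⟨y / 2, by omega⟩
        · rw [lv_even, lv_even]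
          simp [L']
        · rw [lv_odd, lv_odd]
          have h2 : ((2 * k + 1) % 2 == 0) = false := by simp [Nat.add_mod]
          rw [h2, show (2 * k + 1) / 2 = k by omega]
          simp only [L', Bool.false_eq_true, if_false]
          rw [_root_.mul_inv_rev, c_neg, c_comm, Nat.cast_sub hl.one_le, ZMod.natCast_self]
          simp
      rw [Cert.adjVec, Cert.ev_vadd, Cert.ev_vscale, c_add, val_cons, val_cons, ih, hy]
      rw [mul_assoc, ← mul_assoc (lv L y), c_comm, mul_assoc, mul_assoc]
  have hrules : ∀ w ∈ C.rules, val L' w = 1 := by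
    intro w hw
    obtain ⟨r, hr, rfl⟩ := List.getElem_of_mem hw
    have hr' : r < C.rels.length := by
      rw [Cert.rels, List.length_append]; omega
    have hrw : C.rel r = C.rules[r] := by
      rw [Cert.rel, List.getD_eq_getElem _ _ hr']
      exact List.getElem_append_left hr
    have h := C.ev_congr x (htar r hr)
    rw [Cert.ev_vadd, hcomb, C.ev_unit x hr'] at h
    rw [← hrw, hadj, ← hx, ← c_add, h, c_zero]
  let A := Subgroup.closure (tailGens L' 0 C.n)
  have hA : Nat.card ↥A ≤ C.l ^ C.n := by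
    have := card_series_le C hl.pos hshape L' hrules C.n le_rfl
    rwa [Nat.sub_self] at this
  have himg : A.map E.proj = Subgroup.closure (tailGens g 0 C.n) := by
    rw [MonoidHom.map_closure]
    congr 1
    rw [tailGens, tailGens, Set.image_image]
    refine Set.image_congr fun k _ => ?_
    show E.proj (c _ * E.lift (g k)) = g k
    rw [map_mul, c_ker, one_mul, E.proj_lift]
  have hAker : ∀ a ∈ A, E.proj a = 1 → a = 1 := by
    let f : ↥A →* ↥(A.map E.proj) := E.proj.subgroupMap A
    have hf : Function.Surjective f := E.proj.subgroupMap_surjective A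
    have hcard : Nat.card ↥A = Nat.card ↥(A.map E.proj) :=
      le_antisymm (hA.trans (himg ▸ hlow)) (Nat.card_le_card_of_surjective f hf)
    have hb : Function.Bijective f :=
      (Nat.bijective_iff_surjective_and_card f).2 ⟨hf, hcard⟩
    intro a ha h
    have := hb.1 (a₁ := ⟨a, ha⟩) (a₂ := 1) (Subtype.ext (by
      rw [map_one]; exact h))
    exact congrArg Subtype.val this
  refine ⟨A.map E.proj, ?_, ?_⟩
  · intro y hy hy1
    refine hAker y ?_ hy1
    have hle : ⁅E.pre (A.map E.proj), E.pre (A.map E.proj)⁆ ≤ A := by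
      rw [Subgroup.commutator_le]
      intro a ha b hb
      obtain ⟨a', ha', hae⟩ := ha
      obtain ⟨b', hb', hbe⟩ := hb
      have e1 : E.proj (a'⁻¹ * a) = 1 := by rw [map_mul, map_inv, hae, inv_mul_cancel]
      have e2 : E.proj (b'⁻¹ * b) = 1 := by rw [map_mul, map_inv, hbe, inv_mul_cancel]
      have ha2 : a = a' * (a'⁻¹ * a) := by group
      have hb2 : b = b' * (b'⁻¹ * b) := by group
      rw [ha2, hb2, commutatorElement_def, comm_mul_central (E.ker_central e1) (E.ker_central e2)]
      exact mul_mem (mul_mem (mul_mem ha' hb') (inv_mem ha')) (inv_mem hb')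
    exact hle hy
  · intro hd
    have hP : Nat.card ↥(A.map E.proj) = C.l ^ C.n :=
      le_antisymm ((Nat.card_le_card_of_surjective _ (E.proj.subgroupMap_surjective A)).trans hA)
        (himg ▸ hlow)
    refine hord ?_
    rw [← Subgroup.card_mul_index (A.map E.proj), hP, pow_succ]
    exact Nat.mul_dvd_mul_left _ hd

/-- A prime whose square does not divide the order. -/
theorem noStem_of_not_sq_dvd [Finite G] {l : ℕ} (hl : l.Prime) (h : ¬ l ^ 2 ∣ Nat.card G) :
    NoStem l G := by
  have := Fact.mk hl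
  refine noStem_of_killed hl fun Γ _ _ E => ?_
  obtain ⟨P⟩ := (inferInstance : Nonempty (Sylow l G))
  obtain ⟨k, hk⟩ := P.isPGroup'.exists_card_eq
  have hk1 : k ≤ 1 := by
    by_contra hlt
    exact h ((pow_dvd_pow l (by omega : 2 ≤ k)).trans (hk ▸ Subgroup.card_subgroup_dvd_card _))
  have hcyc : IsCyclic ↥(P : Subgroup G) := by
    interval_cases k
    · have : Subsingleton ↥(P : Subgroup G) :=
        (Nat.card_eq_one_iff_unique.1 (by simpa using hk)).1
      exact isCyclic_of_subsingleton
    · exact isCyclic_of_prime_card (p := l) (by simpa using hk)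
  obtain ⟨a, ha⟩ := (Subgroup.isCyclic_iff_exists_zpowers_eq_top _).1 hcyc
  exact ⟨(P : Subgroup G), ha ▸ LExt.killed_zpowers a, P.not_dvd_index⟩

end Main

end Cfsg.Agent.H34.SylCert
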