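import Cfsg.Agent.H34.SylCert.TitsCode

/-!
Kernel checks of the data for the Tits group.
-/

set_option autoImplicit false
set_option maxRecDepth 100000

namespace Cfsg.Agent.H34.SylCert.Tits

open Cfsg.Lie

theorem elements_ok2 : ∀ i < 100, elementOK (200 + i) = true := by decide +kernel

theorem elements_ok3 : ∀ i < elements.length - 300, elementOK (300 + i) = true := by decide +kernel

theorem lettersTwo_ok : lettersOK lettersTwo = true := by decide +kernel

theorem relsTwo_ok : relsOK certTwo lettersTwo = true := by decide +kernel

end Cfsg.Agent.H34.SylCert.Tits
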