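import Cfsg.Agent.H34.SylCert.TitsCode

/-!
Kernel checks of the data for the Tits group.
-/

set_option autoImplicit false
set_option maxRecDepth 100000

namespace Cfsg.Agent.H34.SylCert.Tits

open Cfsg.Lie

theorem orbitsTwo_ok : orbitsOK certTwo lettersTwo orbitsTwo = true := by decide +kernel

theorem lettersThree_ok : lettersOK lettersThree = true := by decide +kernel

theorem lettersFive_ok : lettersOK lettersFive = true := by decide +kernel

theorem relsThree_ok : relsOK certThree lettersThree = true := by decide +kernel

theorem relsFive_ok : relsOK certFive lettersFive = true := by decide +kernel

theorem orbitsThree_ok : orbitsOK certThree lettersThree orbitsThree = true := by decide +kernel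

theorem orbitsFive_ok : orbitsOK certFive lettersFive orbitsFive = true := by decide +kernel

theorem certThree_ok : certThree.check = true := by decide +kernel

theorem certFive_ok : certFive.check = true := by decide +kernel

end Cfsg.Agent.H34.SylCert.Tits
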