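import Cfsg.Agent.H34.SylCert.LowerBound
import Cfsg.Agent.H34.SylCert.TitsCheckA
import Cfsg.Agent.H34.SylCert.TitsCheckB
import Cfsg.Agent.H34.SylCert.TitsCheckC
import Cfsg.Agent.H34.SylCert.TitsCheckD
import Cfsg.Agent.H40.Tits.Main
import Cfsg.Agent.H37.Basic

/-!
The Tits group has trivial multiplier.
-/

set_option autoImplicit false

namespace Cfsg.Agent.H34.SylCert.Tits

open Cfsg.Lie Cfsg.Agent.Linear.Mult
open Matrix

attribute [local irreducible] getC appC imgList prodOK oneC elements xCode

/-- The matrices. -/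
abbrev M52 : Type := Matrix I52 I52 (ZMod 2)

/-- The group. -/
abbrev T2 : Subgroup (GL I52 (ZMod 2)) := twistedF4 (ZMod 2) 1

/-- Decoded vector. -/
def dec (v : ℕ) : I52 → ZMod 2 := fun r => if v.testBit (pos r) then 1 else 0

/-- Decoded matrix. -/
noncomputable def matOf (M : ℕ) : M52 := Matrix.of fun r c => dec (getC M (pos c)) r

lemma rank_eq : chevF4.rank = 4 := rfl

lemma nroots_eq : chevF4.nroots = 48 := rfl

lemma pos_lt : ∀ r : I52, pos r < 52 := by
  rintro (i | r)
  · have h := i.isLt; have e := rank_eq; simp only [pos]; omega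
  · have h := r.isLt; have e := nroots_eq; simp only [pos]; omega

lemma pos_idxOf_all : ∀ j < 52, pos (idxOf j) = j := by decide +kernel

lemma pos_idxOf {j : ℕ} (hj : j < 52) : pos (idxOf j) = j := pos_idxOf_all j hj

lemma pos_inj : Function.Injective pos := by
  rintro (i | r) (j | q) h <;> simp only [pos] at h
  · exact congrArg Sum.inl (Fin.ext h)
  · have hi := i.isLt; have e := rank_eq; exfalso; omega
  · have hj := j.isLt; have e := rank_eq; exfalso; omega
  · exact congrArg Sum.inr (Fin.ext (by omega))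

lemma idxOf_pos (r : I52) : idxOf (pos r) = r := pos_inj (pos_idxOf (pos_lt r))

lemma dec_xor (a b : ℕ) : dec (a ^^^ b) = dec a + dec b := by
  funext r
  simp only [dec, Pi.add_apply, Nat.testBit_xor]
  rcases Bool.eq_false_or_eq_true (a.testBit (pos r)) with h | h <;>
    rcases Bool.eq_false_or_eq_true (b.testBit (pos r)) with h' | h' <;>
    simp [h, h', CharTwo.add_self_eq_zero]

lemma dec_zero : dec 0 = 0 := by funext r; simp [dec]

lemma dec_two_pow (c : I52) : dec (2 ^ pos c) = Pi.single c 1 := by
  funext r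
  simp only [dec, Nat.testBit_two_pow, decide_eq_true_eq]
  by_cases h : r = c
  · subst h; rw [if_pos rfl, Pi.single_eq_same]
  · rw [if_neg fun e => h (by rw [← idxOf_pos r, ← e, idxOf_pos]), Pi.single_eq_of_ne h]

lemma sum_pos {A : Type*} [AddCommMonoid A] (f : ℕ → A) :
    ∑ k ∈ Finset.range 52, f k = ∑ r : I52, f (pos r) :=
  Finset.sum_bij' (fun k _ => idxOf k) (fun r _ => pos r) (fun _ _ => Finset.mem_univ _)
    (fun r _ => Finset.mem_range.2 (pos_lt r)) (fun k hk => pos_idxOf (Finset.mem_range.1 hk))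
    (fun r _ => idxOf_pos r) (fun k hk => by rw [pos_idxOf (Finset.mem_range.1 hk)])

lemma dec_appC (M v : ℕ) : dec (appC M v) = matOf M *ᵥ dec v := by
  have key : ∀ n, dec (Nat.rec 0 (fun i acc =>
      Nat.xor (Nat.mul (Nat.land (Nat.shiftRight v i) 1) (getC M i)) acc) n)
      = ∑ k ∈ Finset.range n, (if v.testBit k then dec (getC M k) else 0) := by
    intro n
    induction n with
    | zero => simpa using dec_zero
    | succ n ih =>
      show dec (((v >>> n) &&& 1) * getC M n ^^^ _) = _
      rw [dec_xor, ih, Finset.sum_range_succ, add_comm]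
      congr 1
      rw [Nat.and_one_is_mod, Nat.testBit_eq_decide_div_mod_eq, Nat.shiftRight_eq_div_pow]
      rcases Nat.mod_two_eq_zero_or_one (v / 2 ^ n) with h | h <;> simp [h, dec_zero]
  rw [appC_eq, key, sum_pos]
  funext r
  simp only [Finset.sum_apply, Matrix.mulVec, dotProduct, matOf, Matrix.of_apply]
  refine Finset.sum_congr rfl fun c _ => ?_
  simp only [dec]
  split <;> simp [dec]

/-- The product of coded matrices. -/
noncomputable def prodMat (L : List ℕ) : M52 := (L.map matOf).prod

lemma dec_imgList : ∀ (L : List ℕ) (v : ℕ), dec (imgList L v) = prodMat L *ᵥ dec v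
  | [], v => by unfold imgList prodMat; simp
  | M :: t, v => by
    unfold imgList
    rw [force_eq, dec_appC, dec_imgList t v, Matrix.mulVec_mulVec]
    rfl

lemma prodMat_eq {L : List ℕ} {C : ℕ} (h : prodOK L C = true) : prodMat L = matOf C := by
  unfold prodOK at h
  simp only [all52, List.all_eq_true, List.mem_range, Nat.beq_eq] at h
  refine Matrix.ext fun r c => ?_
  have e := congrArg (fun f => f r) (dec_imgList L (2 ^ pos c))
  simp only [dec_two_pow, Matrix.mulVec_single_one] at e
  rw [← h (pos c) (pos_lt c)] at e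
  exact e.symm

lemma getC_oneC : ∀ j < 52, getC oneC j = 2 ^ j := by decide +kernel

lemma matOf_oneC : matOf oneC = 1 := by
  refine Matrix.ext fun r c => ?_
  simp only [matOf, Matrix.of_apply]
  rw [getC_oneC _ (pos_lt c), dec_two_pow, Matrix.one_apply, Pi.single_apply]

lemma matOf_xCode {p : ℕ × ZMod 2} (hp : p ∈ genWords.flatten) :
    matOf (xCode p) = chevF4.x (ZMod 2) p.1 p.2 := by
  by_cases h0 : p.2 = 0
  · rw [h0, H37.x_zero]
    unfold xCode
    rw [if_pos h0, matOf_oneC]
  have h := xCode_ok
  simp only [List.all_eq_true] at h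
  have h' := h p hp
  simp only [xOK, all52, decide_eq_false h0, Bool.false_or, List.all_eq_true, List.mem_range,
    decide_eq_true_eq] at h'
  refine Matrix.ext fun r c => ?_
  have h2 := h' (pos c) (pos_lt c) (pos r) (pos_lt r)
  rw [idxOf_pos, idxOf_pos] at h2
  exact h2

lemma genWords_mem : ∀ w ∈ genWords, w ∈ f4Words (ZMod 2) 1 := by
  intro w hw
  simp only [genWords, List.mem_cons, List.not_mem_nil, or_false] at hw
  rcases hw with rfl | rfl | rfl | rfl | rfl | rfl
  · exact Or.inl ⟨1, Or.inl rfl⟩
  · exact Or.inl ⟨1, Or.inr rfl⟩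
  · exact Or.inr ⟨1, 0, Or.inl rfl⟩
  · exact Or.inr ⟨0, 1, Or.inl rfl⟩
  · exact Or.inr ⟨1, 0, Or.inr rfl⟩
  · exact Or.inr ⟨0, 1, Or.inr rfl⟩

lemma element_ok {i : ℕ} (hi : i < elements.length) : elementOK i = true := by
  by_cases h0 : i < 100
  · exact elements_ok0 i h0
  by_cases h1 : i < 200
  · have := elements_ok1 (i - 100) (by omega); rwa [Nat.add_sub_cancel' (by omega)] at this
  by_cases h2 : i < 300
  · have := elements_ok2 (i - 200) (by omega); rwa [Nat.add_sub_cancel' (by omega)] at this
  have := elements_ok3 (i - 300) (by omega); rwa [Nat.add_sub_cancel' (by omega)] at this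

lemma index_two : (commutator ↥T2).index = 2 := H40.Tits.tits.1

lemma elt_spec : ∀ i < elements.length, ∃ x : ↥T2,
    ((x : GL I52 (ZMod 2)) : M52) = matOf (elt i) ∧ (flag i = true → x ∈ commutator ↥T2) := by
  intro i
  induction i using Nat.strong_induction_on with
  | _ i ih =>
    intro hi
    have h := element_ok hi
    simp only [elementOK] at h
    split at h
    · next h6 =>
      simp only [Bool.and_eq_true, Bool.not_eq_true'] at h
      obtain ⟨⟨hf, hg⟩, hinv⟩ := h
      have hlen : i < genWords.length := h6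
      have hw : genWords.getD i [] ∈ genWords := by
        rw [List.getD_eq_getElem _ _ hlen]; exact List.getElem_mem _
      have e1 : chevF4.wordMat (ZMod 2) (genWords.getD i []) = matOf (elt i) := by
        refine Eq.trans ?_ (prodMat_eq hg)
        simp only [prodMat, List.map_map, ChevalleyDatum.wordMat]
        refine congrArg List.prod (List.map_congr_left fun p hp => (matOf_xCode ?_).symm)
        exact List.mem_flatten.2 ⟨_, hw, hp⟩
      have e2 : matOf (elt i) * matOf (genInv.getD i 0) = 1 := by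
        rw [← matOf_oneC, ← prodMat_eq hinv]
        simp [prodMat, elt]
      obtain ⟨u, hu⟩ : IsUnit (matOf (elt i)) :=
        ⟨⟨_, _, e2, mul_eq_one_comm.1 e2⟩, rfl⟩
      refine ⟨⟨u, Subgroup.subset_closure ⟨_, genWords_mem _ hw, hu.trans e1.symm⟩⟩, hu,
        fun hf' => ?_⟩
      rw [flag, hf] at hf'
      exact absurd hf' (by simp)
    · simp only [Bool.and_eq_true, decide_eq_true_eq, Bool.or_eq_true, Bool.not_eq_true',
        beq_iff_eq] at h
      obtain ⟨⟨⟨a1, a2, b1, b2⟩, hp⟩, hfl⟩ := h
      set a := (elements.getD i (0, 0, 0, false)).2.1 with ha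
      set b := (elements.getD i (0, 0, 0, false)).2.2.1 with hb
      obtain ⟨x, hx, hxf⟩ := ih (a - 1) (by omega) (by omega)
      obtain ⟨y, hy, hyf⟩ := ih (b - 1) (by omega) (by omega)
      refine ⟨x * y, ?_, fun hf => ?_⟩
      · rw [Subgroup.coe_mul, Units.val_mul, hx, hy]
        refine Eq.trans ?_ (prodMat_eq hp)
        simp [prodMat]
      · rcases hfl with (hf' | hab) | ⟨ha', hb'⟩
        · rw [flag, hf'] at hf
          exact absurd hf (by simp)
        · have hxy : x = y := by
            refine Subtype.ext (Units.ext ?_)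
            rw [hx, hy, hab]
          rw [hxy, ← sq]
          exact Subgroup.sq_mem_of_index_two index_two y
        · exact mul_mem (hxf ha') (hyf hb')

lemma map_inv_eq {G M : Type*} [Group G] [Monoid M] (f : G →* M) {a : G} {b : M}
    (h : f a * b = 1) : f a⁻¹ = b := by
  calc f a⁻¹ = f a⁻¹ * (f a * b) := by rw [h, mul_one]
    _ = b := by rw [← mul_assoc, ← map_mul, inv_mul_cancel, map_one, one_mul]

/-- The generator. -/
noncomputable def gen (P : List (ℕ × ℕ)) (k : ℕ) : TitsGroup :=
  open Classical in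
  if h : ∃ x : TitsGroup, (((x : ↥T2) : GL I52 (ZMod 2)) : M52) = matOf (letter P (2 * k))
  then h.choose else 1

/-- The matrix of an element. -/
noncomputable def matHom : TitsGroup →* M52 :=
  (Units.coeHom M52).comp (T2.subtype.comp (commutator ↥T2).subtype)

lemma matHom_injective : Function.Injective matHom := fun _ _ h =>
  Subtype.ext (Subtype.ext (Units.ext h))

section

variable {P : List (ℕ × ℕ)} (hP : lettersOK P = true)
include hP

lemma letter_spec {k : ℕ} (hk : k < P.length) :
    matHom (gen P k) = matOf (letter P (2 * k)) ∧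
      matHom (gen P k)⁻¹ = matOf (letter P (2 * k + 1)) := by
  simp only [lettersOK, List.all_eq_true, List.mem_range, Bool.and_eq_true,
    decide_eq_true_eq] at hP
  obtain ⟨⟨⟨h1, h2⟩, hf⟩, hinv⟩ := hP k hk
  obtain ⟨x, hx, hxf⟩ := elt_spec ((P.getD k (0, 0)).1 - 1) (by omega)
  have he : letter P (2 * k) = elt ((P.getD k (0, 0)).1 - 1) := by simp [letter]
  have hex : ∃ x : TitsGroup,
      (((x : ↥T2) : GL I52 (ZMod 2)) : M52) = matOf (letter P (2 * k)) :=
    ⟨⟨x, hxf hf⟩, by rw [he]; exact hx⟩
  have hg : matHom (gen P k) = matOf (letter P (2 * k)) := by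
    rw [gen, dif_pos hex]
    exact hex.choose_spec
  have e : matOf (letter P (2 * k)) * matOf (letter P (2 * k + 1)) = 1 := by
    rw [← matOf_oneC, ← prodMat_eq hinv]
    simp [prodMat]
  exact ⟨hg, map_inv_eq matHom (by rw [hg]; exact e)⟩

lemma word_spec : ∀ {w : List ℕ}, (∀ x ∈ w, x < 2 * P.length) →
    matHom (val (gen P) w) = prodMat (w.map (letter P))
  | [], _ => by simp [val_nil, prodMat]
  | x :: w, h => by
    have hl : matHom (lv (gen P) x) = matOf (letter P x) := by
      have hx := h x (by simp)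
      obtain ⟨k, rfl | rfl⟩ : ∃ k, x = 2 * k ∨ x = 2 * k + 1 := ⟨x / 2, by omega⟩
      · rw [lv_even]; exact (letter_spec hP (by omega)).1
      · rw [lv_odd]; exact (letter_spec hP (by omega)).2
    rw [val_cons, map_mul, hl, word_spec fun y hy => h y (List.mem_cons_of_mem _ hy)]
    simp [prodMat]

omit hP in
lemma memN_iff {x : ℕ} : ∀ {L : List ℕ}, memN x L = true ↔ x ∈ L := by
  intro L
  induction L with
  | nil => simp [memN]
  | cons y t ih => simp [memN, ih, Nat.beq_eq]

omit hP in
lemma dec_inj {a b : ℕ} (ha : a < 2 ^ 52) (hb : b < 2 ^ 52) (h : dec a = dec b) : a = b := by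
  apply Nat.eq_of_testBit_eq
  intro j
  by_cases hj : j < 52
  · have := congrFun h (idxOf j)
    simp only [dec, pos_idxOf hj] at this
    rcases Bool.eq_false_or_eq_true (a.testBit j) with e | e <;>
      rcases Bool.eq_false_or_eq_true (b.testBit j) with e' | e' <;>
      simp [e, e'] at this ⊢
  · have h52 : 2 ^ 52 ≤ 2 ^ j := Nat.pow_le_pow_right (by norm_num) (by omega)
    rw [Nat.testBit_lt_two_pow (by omega), Nat.testBit_lt_two_pow (by omega)]

/-- A certificate with true relators and separating orbits. -/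
theorem noStem_of_data (C : Cert) (Os : List (List ℕ)) (hC : C.check = true)
    (hR : relsOK C P = true) (hO : orbitsOK C P Os = true) (hl : C.l.Prime)
    (hord : ¬ C.l ^ (C.n + 1) ∣ Nat.card TitsGroup) : NoStem C.l TitsGroup := by
  have hfin : Finite TitsGroup :=
    Nat.finite_of_card_ne_zero (by rw [H40.Tits.tits.2.2.2]; norm_num)
  simp only [relsOK, Bool.and_eq_true, Nat.beq_eq, List.all_eq_true, decide_eq_true_eq] at hR
  obtain ⟨⟨hlen, hn⟩, hrels⟩ := hR
  have hrel : ∀ w ∈ C.rels, val (gen P) w = 1 := by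
    intro w hw
    obtain ⟨hb, hone⟩ := hrels w hw
    refine matHom_injective ?_
    rw [word_spec hP (fun x hx => by rw [hlen]; exact hb x hx), prodMat_eq hone, matOf_oneC,
      map_one]
  refine SylCert.noStem C hl hC (gen P) hrel ?_ hord
  have hC' := hC
  simp only [Cert.check, Bool.and_eq_true] at hC'
  refine card_series_ge C hl hC'.1.1.1 (gen P)
    (fun w hw => hrel w (List.mem_append_left _ hw)) fun i hi => ?_
  simp only [orbitsOK, List.all_eq_true, List.mem_range] at hO
  have h := hO i hi
  simp only [orbitOK, Bool.and_eq_true, List.all_eq_true, List.mem_range,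
    Bool.not_eq_true', Nat.ble_eq, memN_iff] at h
  obtain ⟨⟨⟨hcl, hne⟩, hb⟩, hout⟩ := h
  generalize Os.getD i [] = O at hcl hne hb hout
  cases O with
  | nil => simp at hne
  | cons a O' =>
    rw [List.headD_cons] at hb hout
    refine not_mem_closure_of_orbit (fun g v => matHom g *ᵥ v)
      (fun v => by rw [map_one, Matrix.one_mulVec])
      (fun g h v => by rw [map_mul, Matrix.mulVec_mulVec]) _ ((a :: O').map dec) ?_
      (a := dec a) (List.mem_map.2 ⟨a, by simp, rfl⟩) ?_
    · rintro _ ⟨j, ⟨hj1, hj2⟩, rfl⟩ v hv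
      obtain ⟨u, hu, rfl⟩ := List.mem_map.1 hv
      have hm := (hcl u hu).2 (j - i - 1) (by omega)
      rw [show i + 1 + (j - i - 1) = j by omega] at hm
      refine List.mem_map.2 ⟨_, hm, ?_⟩
      rw [dec_appC, (letter_spec hP (show j < P.length by omega)).1]
    · intro hmem
      obtain ⟨u, hu, e⟩ := List.mem_map.1 hmem
      rw [(letter_spec hP (show i < P.length by omega)).1, ← dec_appC] at e
      have he := dec_inj (by have := (hcl u hu).1; omega) (by omega) e
      rw [he] at hu
      exact (Bool.eq_false_iff.1 hout) (memN_iff.2 hu)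

end

/-- The Tits group has trivial multiplier. -/
theorem multiplier_tits : Cfsg.HasCyclicSchurMultiplier TitsGroup 1 := by
  have hfin : Finite TitsGroup :=
    Nat.finite_of_card_ne_zero (by rw [H40.Tits.tits.2.2.2]; norm_num)
  have hcard : Nat.card TitsGroup = 17971200 := H40.Tits.tits.2.2.2
  refine hasTrivialMultiplier_of_noStem fun l hl => ?_
  by_cases h2 : l = 2
  · subst h2
    exact noStem_of_data lettersTwo_ok certTwo orbitsTwo certTwo_ok relsTwo_ok orbitsTwo_ok
      Nat.prime_two (by rw [hcard]; decide +kernel)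
  by_cases h3 : l = 3
  · subst h3
    exact noStem_of_data lettersThree_ok certThree orbitsThree certThree_ok relsThree_ok
      orbitsThree_ok Nat.prime_three (by rw [hcard]; decide +kernel)
  by_cases h5 : l = 5
  · subst h5
    exact noStem_of_data lettersFive_ok certFive orbitsFive certFive_ok relsFive_ok
      orbitsFive_ok (by decide +kernel : Nat.Prime 5) (by rw [hcard]; decide +kernel)
  refine noStem_of_not_sq_dvd hl fun hd => ?_
  rw [hcard, show 17971200 = 2 ^ 11 * (3 ^ 3 * (5 ^ 2 * 13)) by norm_num] at hd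
  have c2 : Nat.Coprime (l ^ 2) (2 ^ 11) :=
    Nat.Coprime.pow 2 11 ((Nat.coprime_primes hl Nat.prime_two).2 h2)
  have c3 : Nat.Coprime (l ^ 2) (3 ^ 3) :=
    Nat.Coprime.pow 2 3 ((Nat.coprime_primes hl Nat.prime_three).2 h3)
  have c5 : Nat.Coprime (l ^ 2) (5 ^ 2) :=
    Nat.Coprime.pow 2 2 ((Nat.coprime_primes hl (by decide +kernel : Nat.Prime 5)).2 h5)
  have hdm := c5.dvd_of_dvd_mul_left (c3.dvd_of_dvd_mul_left (c2.dvd_of_dvd_mul_left hd))
  have hle := Nat.le_of_dvd (by norm_num) hdm
  have hl4 : l < 4 := by nlinarith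
  have := hl.two_le
  omega

end Cfsg.Agent.H34.SylCert.Tits
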