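import Cfsg.Agent.H34.SylCert.Cert

/-!
Generated data: Sylow certificates for the primes 2, 3 and 5 in the Tits group.
-/

set_option autoImplicit false
set_option maxRecDepth 100000

namespace Cfsg.Agent.H34.SylCert.Tits

open Cfsg.Agent.H34.SylCert

/-- Certificate for the prime 2. -/
def certTwo : Cert where
  l := 2
  n := 11
  ng := 13
  pw := [[10, 7, 6, 5, 4, 1], [9, 8, 5, 4], [9, 7, 4], [10, 7, 6, 5, 4], [10, 9, 8], [8], [], [], [], [], []]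
  cj := [
    [[10, 8, 7, 1], [5, 4, 3, 2], [8, 7, 6, 4, 3], [10, 9, 8, 6, 4], [10, 8, 6, 5], [7, 6], [10, 8, 7], [9, 8], [10, 9], [10]],
    [[10, 5, 2], [8, 7, 6, 3], [10, 9, 7, 4], [10, 9, 7, 5], [8, 6], [9, 7], [10, 8], [9], [10]],
    [[10, 8, 5, 4, 3], [10, 9, 4], [8, 7, 5], [10, 9, 7, 6], [9, 7], [10, 8], [10, 9], [10]],
    [[9, 8, 7, 4], [10, 7, 5], [10, 9, 8, 6], [10, 7], [10, 8], [9], [10]],
    [[9, 5], [10, 9, 6], [10, 7], [8], [9], [10]],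
    [[9, 6], [10, 7], [8], [9], [10]],
    [[7], [8], [9], [10]],
    [[8], [9], [10]],
    [[9], [10]],
    [[10]],
    []]
  extra := [
    [22, 4, 2, 23, 3, 5, 7, 11, 15, 19, 21],
    [22, 6, 23, 3, 5, 7, 15, 17, 21],
    [22, 8, 23, 7, 9, 15, 21],
    [22, 10, 23, 3, 5, 7, 9, 15, 17],
    [22, 12, 23, 3, 5, 19, 21],
    [22, 14, 23, 17],
    [22, 16, 23, 15, 19, 21],
    [22, 18, 23, 9, 11, 13, 15, 19, 21],
    [22, 20, 23, 21],
    [24, 4, 0, 25, 1, 5, 11, 13],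
    [24, 2, 25, 1, 3, 5, 9, 13, 15],
    [24, 6, 25, 1, 3, 5, 11, 13, 19, 21],
    [24, 8, 25, 3, 7, 9, 13, 15, 17],
    [24, 10, 25, 11, 17, 19],
    [24, 12, 25, 13],
    [24, 14, 25, 13, 15, 17, 19],
    [24, 16, 25, 17],
    [24, 18, 25, 19],
    [24, 20, 25, 19, 21]]
  syz := [
    [([], 45, true), ([], 48, false), ([10], 45, false)],
    [([22], 56, false), ([], 71, true), ([16], 71, true), ([], 60, true)],
    [([], 38, true), ([20, 18], 42, false), ([20], 43, false), ([], 44, false), ([8], 38, false)],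
    [([], 45, true), ([], 61, true), ([18], 45, false), ([], 49, false), ([10], 49, false)],
    [([], 45, true), ([], 62, true), ([20], 45, false), ([], 50, false), ([10], 50, false)],
    [([], 6, true), ([14, 12], 6, true), ([14], 52, true), ([], 56, true), ([], 51, true), ([0], 51, false)],
    [([], 8, true), ([18, 16], 8, true), ([18], 61, true), ([], 63, true), ([], 60, true), ([0], 60, false)],
    [([], 9, true), ([20, 18], 9, true), ([20], 64, true), ([], 65, true), ([], 63, true), ([0], 63, false)],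
    [([], 16, true), ([16, 12], 16, true), ([16], 53, true), ([], 60, true), ([], 51, true), ([2], 51, false)],
    [([], 17, true), ([18, 14], 17, true), ([18], 58, true), ([], 63, true), ([], 56, true), ([2], 56, false)],
    [([], 18, true), ([20, 16], 18, true), ([20], 62, true), ([], 65, true), ([], 60, true), ([2], 60, false)],
    [([], 34, true), ([20, 14], 34, true), ([20], 59, true), ([], 65, true), ([], 56, true), ([6], 56, false)],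
    [([], 46, true), ([18, 12], 46, true), ([18], 54, true), ([], 63, true), ([], 51, true), ([10], 51, false)],
    [([], 21, true), ([18, 14], 44, true), ([18], 59, true), ([], 64, true), ([20], 21, false), ([], 29, false), ([4], 29, false)],
    [([], 39, true), ([18, 10], 39, true), ([18], 49, true), ([], 63, true), ([], 45, true), ([], 42, false), ([8], 45, false)],
    [([], 45, true), ([], 53, false), ([12], 45, false), ([], 63, false), ([18], 46, false), ([], 49, false), ([10], 46, false)],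
    [([], 45, true), ([], 57, false), ([14], 45, false), ([], 65, false), ([20], 47, false), ([], 50, false), ([10], 47, false)],
    [([], 11, true), ([18, 16, 10], 44, true), ([18, 16], 50, true), ([18], 62, true), ([], 64, true), ([20], 11, false), ([], 20, false), ([2], 20, false)],
    [([], 2, true), ([10, 8, 6, 4], 10, true), ([10, 8, 6], 29, true), ([10, 8], 37, true), ([10], 44, true), ([], 50, true), ([20], 2, false), ([], 10, false), ([0], 29, false)],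
    [([], 6, true), ([14, 12], 9, true), ([14], 55, true), ([], 59, true), ([20, 14], 54, true), ([20], 58, true), ([20, 18], 6, false), ([], 9, false), ([0], 54, false)],
    [([], 7, true), ([20, 16, 14], 7, true), ([20, 16], 59, true), ([20], 62, true), ([], 65, true), ([16], 57, true), ([], 60, true), ([], 56, true), ([0], 56, false)],
    [([], 21, true), ([], 58, false), ([], 65, false), ([20], 59, false), ([20, 14], 23, false), ([20], 63, false), ([20, 18], 26, false), ([], 28, false), ([4], 21, false)],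
    [([], 21, true), ([18, 14], 42, true), ([18], 57, true), ([], 61, false), ([16], 21, false), ([], 65, false), ([20], 27, false), ([], 29, false), ([4], 27, false)],
    [([22], 55, false), ([], 70, true), ([20, 18, 4, 2], 74, true), ([20, 18, 4], 20, true), ([20, 18], 29, true), ([20], 64, true), ([], 65, true), ([], 65, false), ([20], 70, false), ([], 74, false)],
    [([24], 45, false), ([], 79, true), ([18, 16, 10], 79, true), ([18, 16], 49, true), ([18], 61, true), ([], 63, true), ([16], 48, true), ([], 60, true), ([], 45, true), ([], 82, false)],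
    [([], 24, true), ([16, 14, 10], 24, true), ([16, 14], 48, true), ([16], 57, true), ([], 60, true), ([14], 47, true), ([], 59, true), ([20], 56, true), ([20], 45, true), ([], 27, false), ([4], 45, false)],
    [([], 32, true), ([20, 14, 10], 32, true), ([20, 14], 50, true), ([20], 59, true), ([], 65, true), ([14], 47, true), ([], 59, true), ([20], 56, true), ([20], 45, true), ([], 35, false), ([6], 45, false)],
    [([24], 43, false), ([], 78, true), ([16, 14, 12, 8, 6, 2], 83, true), ([16, 14, 12, 8, 6], 19, true), ([16, 14, 12, 8], 36, true), ([16, 14, 12], 43, true), ([16, 14], 54, true), ([16], 58, true), ([], 61, true), ([18], 78, false), ([], 83, false)],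
    [([], 0, true), ([20, 14, 12, 10, 8], 19, true), ([20, 14, 12, 10], 43, true), ([20, 14, 12], 49, true), ([20, 14], 54, true), ([20], 58, true), ([], 64, false), ([18], 0, false), ([], 65, false), ([20], 9, false), ([], 10, false), ([0], 9, false)],
    [([], 21, true), ([18, 14], 41, true), ([18], 59, true), ([], 64, true), ([20, 18], 56, true), ([20, 18], 56, false), ([20], 58, false), ([20, 14], 21, false), ([20], 63, false), ([20, 18], 26, false), ([], 28, false), ([4], 26, false)],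
    [([24], 46, false), ([], 79, true), ([18, 16, 10], 80, true), ([18, 16], 46, true), ([18], 61, true), ([], 63, true), ([], 53, false), ([], 63, false), ([18], 54, false), ([18, 12], 79, false), ([18], 80, false), ([], 83, false)],
    [([22], 52, false), ([], 70, true), ([20, 18, 4, 2], 71, true), ([20, 18, 4], 18, true), ([20, 18], 29, true), ([20], 64, true), ([], 65, true), ([18], 27, true), ([], 64, true), ([20], 61, false), ([], 62, false), ([16], 70, false), ([], 71, false)],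
    [([24], 56, false), ([], 81, true), ([18, 16, 14, 12], 81, true), ([18, 16, 14], 54, true), ([18, 16], 58, true), ([18], 61, true), ([], 63, true), ([16, 14], 53, true), ([16], 57, true), ([], 60, true), ([14], 52, true), ([], 56, true), ([], 51, true)],
    [([], 23, true), ([20, 18, 8], 23, true), ([20, 18], 44, true), ([20], 64, true), ([], 65, true), ([18], 43, true), ([], 63, true), ([], 38, true), ([], 64, false), ([18], 27, false), ([], 65, false), ([20], 28, false), ([], 29, false), ([4], 38, false)],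
    [([], 5, true), ([20, 16, 12, 10], 5, true), ([20, 16, 12], 50, true), ([20, 16], 55, true), ([20], 62, true), ([], 65, true), ([16, 12], 48, true), ([16], 53, true), ([], 60, true), ([12], 46, true), ([], 54, true), ([18], 51, true), ([18], 45, true), ([], 8, false), ([0], 45, false)],
    [([], 11, true), ([18, 16, 10], 41, true), ([18, 16], 50, true), ([18], 62, true), ([], 64, true), ([20, 18, 16], 47, true), ([20, 18], 62, true), ([20], 64, true), ([], 65, true), ([18], 57, false), ([], 58, false), ([14], 11, false), ([], 63, false), ([18], 17, false), ([], 19, false), ([2], 17, false)],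
    [([], 11, true), ([18, 16, 10], 40, true), ([18, 16], 50, true), ([18], 62, true), ([], 64, true), ([20, 18, 16], 49, true), ([20, 18], 61, true), ([20], 63, true), ([20, 16], 46, true), ([20], 61, true), ([20, 18], 53, false), ([20], 54, false), ([20, 12], 11, false), ([20], 60, false), ([20, 16], 16, false), ([], 18, false), ([2], 16, false)],
    [([], 21, true), ([18, 14], 39, true), ([18], 58, true), ([], 63, true), ([], 65, false), ([20], 47, false), ([20], 63, false), ([20, 18], 49, false), ([20, 18, 10], 21, false), ([20, 18], 56, false), ([20, 18], 60, false), ([20, 18, 16], 57, false), ([20, 18, 16, 14], 24, false), ([20], 61, false), ([20, 16], 26, false), ([], 27, false), ([4], 24, false)],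
    [([], 0, true), ([20, 14, 12, 10, 8], 18, true), ([20, 14, 12, 10], 44, true), ([20, 14, 12], 50, true), ([20, 14], 55, true), ([20], 59, true), ([], 65, true), ([14, 12, 10], 42, true), ([14, 12], 48, true), ([14], 53, true), ([], 57, true), ([], 65, false), ([20], 62, false), ([20, 16], 0, false), ([20], 63, false), ([20, 18], 8, false), ([], 9, false), ([0], 8, false)],
    [([], 21, true), ([18, 14], 40, true), ([18], 59, true), ([], 64, true), ([20, 18], 58, true), ([20], 63, true), ([20], 52, false), ([20], 63, false), ([20, 18], 54, false), ([20, 18, 12], 21, false), ([20, 18], 56, false), ([20], 58, false), ([], 59, false), ([14], 25, false), ([], 63, false), ([18], 26, false), ([], 65, false), ([20], 28, false), ([], 29, false), ([4], 25, false)],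
    [([], 1, true), ([20, 16, 14, 2], 6, true), ([20, 16, 14], 17, true), ([20, 16], 58, true), ([20], 61, true), ([20, 18, 16], 56, true), ([20, 18, 16], 16, true), ([20, 18], 60, true), ([20, 18], 56, false), ([20, 18, 14], 52, false), ([20, 18], 60, false), ([20, 18, 16], 57, false), ([20, 18, 16, 14], 53, false), ([], 64, false), ([18], 62, false), ([18, 16], 59, false), ([18, 16, 14], 55, false), ([18, 16, 14, 12], 1, false), ([18, 16], 6, false), ([], 8, false), ([0], 16, false)],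
    [([24], 47, false), ([], 79, true), ([18, 16, 10], 81, true), ([18, 16], 49, true), ([18], 61, true), ([], 63, true), ([16], 48, true), ([], 60, true), ([], 47, true), ([20, 14], 46, true), ([20], 58, true), ([20, 18], 60, false), ([20, 18, 16], 57, false), ([20, 18, 16, 14], 53, false), ([20], 61, false), ([20, 16], 58, false), ([20, 16, 14], 54, false), ([20], 63, false), ([20, 18, 18, 16, 14, 12], 79, false), ([20, 18], 81, false), ([], 84, false)],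
    [([], 12, true), ([20, 10, 4], 12, true), ([20, 10], 29, true), ([20], 50, true), ([], 65, true), ([10], 24, true), ([], 48, true), ([16], 47, true), ([], 62, true), ([20, 16, 14], 45, true), ([20, 16], 57, true), ([20], 60, true), ([20, 14], 21, true), ([20], 58, true), ([20, 18], 56, true), ([20, 18], 56, false), ([20], 58, false), ([], 59, false), ([14], 14, false), ([], 63, false), ([18], 17, false), ([], 19, false), ([2], 21, false)],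
    [([], 11, true), ([18, 16], 56, false), ([], 65, false), ([20], 64, false), ([20, 18], 62, false), ([20, 18, 16], 59, false), ([20, 18, 16, 14], 47, false), ([20], 61, false), ([20, 16], 58, false), ([20, 16, 14], 49, false), ([], 62, false), ([16], 59, false), ([16, 14], 50, false), ([16, 14, 10], 14, false), ([], 63, false), ([18], 61, false), ([], 65, false), ([20], 64, false), ([20, 18], 62, false), ([20, 18, 16], 15, false), ([], 64, false), ([18], 18, false), ([], 19, false), ([2], 11, false)],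
    [([], 30, true), ([20, 14, 12, 10], 39, true), ([20, 14, 12], 49, true), ([20, 14], 54, true), ([20], 58, true), ([20, 18, 14, 12], 45, true), ([20, 18, 14], 53, true), ([20, 18], 57, true), ([20, 18], 57, false), ([20, 18, 14], 53, false), ([20, 18, 14, 12], 45, false), ([20], 58, false), ([20, 14], 46, false), ([], 47, false), ([], 65, false), ([20], 50, false), ([20, 10], 30, false), ([20], 56, false), ([], 59, false), ([14], 32, false), ([], 65, false), ([20], 34, false), ([], 37, false), ([6], 32, false)],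
    [([], 30, true), ([20], 52, false), ([], 55, false), ([12], 47, false), ([], 60, false), ([16], 53, false), ([16, 12], 48, false), ([], 63, false), ([18], 61, false), ([18, 16], 54, false), ([18, 16, 12], 49, false), ([18, 16, 12, 10], 31, false), ([18, 16], 56, false), ([18, 16, 14], 52, false), ([], 65, false), ([20], 64, false), ([20, 18], 62, false), ([20, 18, 16], 59, false), ([20, 18, 16, 14], 55, false), ([20, 18, 16, 14, 12], 32, false), ([20, 18], 57, false), ([20], 58, false), ([], 59, false), ([14], 33, false), ([], 65, false), ([20], 34, false), ([], 37, false), ([6], 30, false)],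
    [([], 0, true), ([20, 14, 12, 10, 8], 16, true), ([20, 14, 12, 10], 42, true), ([20, 14, 12], 48, true), ([20, 14], 53, true), ([20], 57, true), ([20, 16, 14, 12, 10], 40, true), ([20, 16, 14, 12], 50, true), ([20, 16, 14], 55, true), ([20, 16], 59, true), ([20], 62, true), ([], 65, true), ([16, 14, 12], 49, true), ([16, 14], 54, true), ([16], 58, true), ([], 61, true), ([18, 16, 14, 12], 46, true), ([18, 16, 14], 54, true), ([18, 16], 58, true), ([18], 61, true), ([], 63, true), ([16, 14], 51, true), ([16, 14], 51, false), ([16], 52, false), ([], 65, false), ([20], 62, false), ([20, 16], 55, false), ([20, 16, 12], 0, false), ([20, 16], 56, false), ([20, 16, 14], 6, false), ([], 7, false), ([0], 6, false)],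
    [([], 11, true), ([18, 16], 56, false), ([], 65, false), ([20], 64, false), ([20, 18], 62, false), ([20, 18, 16], 59, false), ([20, 18, 16, 14], 47, false), ([20, 18], 57, false), ([20, 18, 14], 48, false), ([20], 58, false), ([20, 14], 49, false), ([20, 14, 10], 31, false), ([], 32, false), ([], 60, false), ([], 65, false), ([20], 62, false), ([20, 16], 35, false), ([20], 63, false), ([20, 18], 61, false), ([20, 18, 16], 36, false), ([20, 18, 16, 6], 11, false), ([20, 18, 16], 51, false), ([20, 18, 16], 56, false), ([20, 18, 16, 14], 52, false), ([20, 18], 57, false), ([20, 18, 14], 53, false), ([20, 18, 14, 12], 13, false), ([20, 18], 60, false), ([20, 18, 16], 57, false), ([20, 18, 16, 14], 16, false), ([20], 61, false), ([20, 16], 17, false), ([], 18, false), ([2], 13, false)],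
    [([], 1, true), ([20, 16, 14, 2], 1, true), ([20, 16, 14], 20, true), ([20, 16], 59, true), ([20], 62, true), ([], 65, true), ([16, 14], 18, true), ([16], 59, true), ([], 62, true), ([20, 16], 57, true), ([20], 60, true), ([20, 14], 17, true), ([20], 58, true), ([20, 18], 56, true), ([20, 18], 11, true), ([20], 63, true), ([20, 16], 51, false), ([20], 63, false), ([20, 18], 61, false), ([20, 18, 16], 54, false), ([20, 18, 16, 12], 46, false), ([20, 18], 53, false), ([20, 18, 12], 48, false), ([20], 54, false), ([20, 12], 49, false), ([], 55, false), ([12], 50, false), ([12, 10], 4, false), ([], 60, false), ([], 65, false), ([20], 62, false), ([20, 16], 5, false), ([20], 63, false), ([20, 18], 8, false), ([], 9, false), ([0], 11, false)],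
    [([], 0, true), ([20], 52, false), ([], 55, false), ([12], 47, false), ([], 65, false), ([20], 55, false), ([20, 12], 50, false), ([20, 12, 10], 41, false), ([20], 60, false), ([20, 16], 53, false), ([20, 16, 12], 48, false), ([20, 16, 12, 10], 42, false), ([], 62, false), ([16], 55, false), ([16, 12], 50, false), ([16, 12, 10], 44, false), ([16, 12, 10, 8], 1, false), ([], 63, false), ([18], 61, false), ([18, 16], 46, false), ([18], 48, false), ([], 49, false), ([], 65, false), ([20], 50, false), ([20, 10], 4, false), ([20], 51, false), ([20], 60, false), ([20, 16], 53, false), ([], 62, false), ([16], 55, false), ([16, 12], 5, false), ([16], 56, false), ([16, 14], 6, false), ([], 65, false), ([20], 7, false), ([], 10, false), ([0], 0, false)],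
    [([22], 51, false), ([], 70, true), ([20, 18, 4, 2], 70, true), ([20, 18, 4], 20, true), ([20, 18], 29, true), ([20], 64, true), ([], 65, true), ([18, 4], 19, true), ([18], 28, true), ([], 64, true), ([20], 63, true), ([20, 4], 12, true), ([20], 29, true), ([], 65, true), ([], 24, true), ([16, 14, 10], 21, true), ([16, 14], 49, true), ([16], 58, true), ([], 61, true), ([18, 16, 14], 47, true), ([18, 16], 59, true), ([18], 62, true), ([], 64, true), ([20, 18, 16], 56, true), ([20, 18, 16, 10, 8], 11, true), ([20, 18, 16, 10], 43, true), ([20, 18, 16], 49, true), ([20, 18], 61, true), ([20], 63, true), ([20, 16, 10], 42, true), ([20, 16], 48, true), ([20], 60, true), ([20, 10], 39, true), ([20], 49, true), ([20, 18], 45, true), ([20, 18, 16], 38, true), ([20, 18], 62, true), ([20], 64, true), ([], 65, true), ([18], 61, true), ([], 63, true), ([], 60, true)],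
    [([22], 63, false), ([], 73, true), ([20, 18, 14, 12, 10, 8], 73, true), ([20, 18, 14, 12, 10], 44, true), ([20, 18, 14, 12], 50, true), ([20, 18, 14], 55, true), ([20, 18], 59, true), ([20], 64, true), ([], 65, true), ([18, 14, 12, 10], 43, true), ([18, 14, 12], 49, true), ([18, 14], 54, true), ([18], 58, true), ([], 63, true), ([14, 12, 10], 41, true), ([14, 12], 50, true), ([14], 55, true), ([], 59, true), ([20, 14, 12], 47, true), ([20, 14], 55, true), ([20], 59, true), ([], 65, true), ([14], 52, true), ([], 56, true), ([12, 10], 40, true), ([12], 50, true), ([], 55, true), ([20, 12], 49, true), ([20], 54, true), ([20, 18, 12], 46, true), ([20, 18], 54, true), ([20], 63, true), ([20], 51, true), ([20, 10], 39, true), ([20], 49, true), ([20, 18], 45, true), ([20, 18, 16], 38, true), ([20, 18], 62, true), ([20], 64, true), ([], 65, true), ([18], 61, true), ([], 63, true),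 ([], 60, true)],
    [([], 21, true), ([18], 60, false), ([], 61, false), ([16], 31, false), ([16], 56, false), ([], 65, false), ([20], 62, false), ([20, 16], 59, false), ([20, 16, 14], 34, false), ([20], 63, false), ([20, 18], 61, false), ([20, 18, 16], 58, false), ([20, 18, 16, 14], 36, false), ([20, 18, 16, 14, 6], 21, false), ([20, 18], 57, false), ([20], 58, false), ([], 59, false), ([14], 38, false), ([], 60, false), ([16], 57, false), ([16, 14], 45, false), ([], 63, false), ([18], 61, false), ([18, 16], 58, false), ([18, 16, 14], 49, false), ([18, 16, 14, 10], 39, false), ([18], 57, false), ([18, 14], 48, false), ([18, 14, 10], 42, false), ([], 65, false), ([20], 64, false), ([20, 18], 59, false), ([20, 18, 14], 50, false), ([20, 18, 14, 10], 44, false), ([20, 18, 14, 10, 8], 22, false), ([20], 58, false), ([20, 14], 49, false), ([], 59, false), ([14], 50, false), ([14,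 10], 23, false), ([], 60, false), ([16], 24, false), ([], 65, false), ([20], 27, false), ([], 29, false), ([4], 22, false)],
    [([], 0, true), ([20, 14, 12, 10, 8], 15, true), ([20, 14, 12, 10], 44, true), ([20, 14, 12], 50, true), ([20, 14], 55, true), ([20], 59, true), ([], 65, true), ([14, 12, 10], 43, true), ([14, 12], 49, true), ([14], 54, true), ([], 58, true), ([18, 14, 12, 10], 41, true), ([18, 14, 12], 50, true), ([18, 14], 55, true), ([18], 59, true), ([], 64, true), ([20, 18, 14, 12], 47, true), ([20, 18, 14], 55, true), ([20, 18], 59, true), ([20], 64, true), ([], 65, true), ([18, 14], 52, true), ([18], 56, true), ([18, 12, 10], 39, true), ([18, 12], 49, true), ([18], 54, true), ([], 63, true), ([12], 45, true), ([], 53, true), ([], 53, false), ([12], 45, false), ([], 63, false), ([18], 46, false), ([18], 56, false), ([], 65, false), ([20], 64, false), ([20,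 18], 59, false), ([20, 18, 14], 47, false), ([], 64, false), ([18], 59, false), ([18, 14], 50, false), ([18, 14, 10], 0, false), ([18, 14], 51, false), ([18], 60, false), ([18, 16], 57, false), ([18, 16, 14], 53, false), ([], 65, false), ([20], 64, false), ([20, 18], 62, false), ([20, 18, 16], 59, false), ([20, 18, 16, 14], 55, false), ([20, 18, 16, 14, 12], 5, false), ([20, 18, 16], 6, false), ([20], 8, false), ([], 10, false), ([0], 5, false)],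
    [([24], 16, false), ([], 76, true), ([14, 12, 8, 4, 2, 0], 80, true), ([14, 12, 8, 4, 2], 6, true), ([14, 12, 8, 4], 17, true), ([14, 12, 8], 28, true), ([14, 12], 44, true), ([14], 55, true), ([], 59, true), ([20, 14, 12], 43, true), ([20, 14], 54, true), ([20], 58, true), ([20, 18, 14, 12, 8], 26, true), ([20, 18, 14, 12], 43, true), ([20, 18, 14], 54, true), ([20, 18], 58, true), ([20], 63, true), ([20, 14, 12], 41, true), ([20, 14], 55, true), ([20], 59, true), ([], 65, true), ([14], 52, true), ([], 56, true), ([12, 8, 4], 16, true), ([12, 8], 27, true), ([12], 44, true), ([], 55, true), ([20, 12], 42, true), ([20], 53, true), ([20, 16, 12, 8], 25, true), ([20, 16, 12], 44, true), ([20, 16], 55, true), ([20], 62, true), ([], 65, true), ([16, 12], 43, true), ([16], 54, true), ([], 61, true), ([18, 16, 12], 41, true), ([18, 16], 55, true), ([18], 62, true), ([], 64,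 true), ([20, 18, 16], 52, true), ([20, 18, 16, 14, 12], 40, true), ([20, 18, 16, 14], 55, true), ([20, 18, 16], 59, true), ([20, 18], 62, true), ([20], 64, true), ([], 65, true), ([18, 16, 14], 54, true), ([18, 16], 58, true), ([18], 61, true), ([], 63, true), ([16, 14], 51, true), ([16, 14], 51, false), ([16], 52, false), ([16, 12], 76, false), ([16], 80, false), ([], 82, false)],
    [([], 22, true), ([20, 16, 10, 8, 6], 22, true), ([20, 16, 10, 8], 37, true), ([20, 16, 10], 44, true), ([20, 16], 50, true), ([20], 62, true), ([], 65, true), ([16, 10, 8], 35, true), ([16, 10], 44, true), ([16], 50, true), ([], 62, true), ([20, 16, 10], 42, true), ([20, 16], 48, true), ([20], 60, true), ([20, 10, 8], 32, true), ([20, 10], 44, true), ([20], 50, true), ([], 65, true), ([10], 41, true), ([], 50, true), ([20], 47, true), ([], 65, true), ([14, 10], 39, true), ([14], 49, true),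 ([], 58, true), ([18, 14], 45, true), ([18], 57, true), ([18, 16, 14, 8], 31, true), ([18, 16, 14], 43, true), ([18, 16], 58, true), ([18], 61, true), ([], 63, true), ([16, 14], 42, true), ([16], 57, true), ([], 60, true), ([14], 41, true), ([], 59, true), ([20], 56, true), ([20], 38, true), ([], 65, true), ([18, 16], 30, true), ([18], 62, true), ([], 64, true), ([20], 61, false), ([20, 16], 58, false), ([20, 16, 14], 54, false), ([20, 16, 14, 12], 49, false), ([], 62, false), ([16], 59, false), ([16, 14], 55, false), ([16, 14, 12], 50, false), ([16, 14, 12, 10], 23, false), ([16], 52, false), ([], 53, false), ([12], 24, false), ([], 56, false), ([], 63, false), ([18], 58, false), ([], 65, false), ([20], 64, false), ([20, 18], 59, false), ([20, 18, 14], 25, false), ([20], 26, false), ([], 29, false), ([4], 30, false)],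
    [([], 0, true), ([20, 14, 12, 10, 8], 13, true), ([20, 14, 12, 10], 42, true), ([20, 14, 12], 48, true), ([20, 14], 53, true), ([20], 57, true), ([20, 16, 14, 12, 10], 41, true), ([20, 16, 14, 12], 50, true), ([20, 16, 14], 55, true), ([20, 16], 59, true), ([20], 62, true), ([], 65, true), ([16, 14, 12], 47, true), ([16, 14], 55, true), ([16], 59, true), ([], 62, true), ([20, 16, 14], 52, true), ([20, 16], 56, true), ([20, 16, 12, 10], 40, true), ([20, 16, 12], 50, true), ([20, 16], 55, true), ([20], 62, true), ([], 65, true), ([16, 12], 49, true), ([16], 54, true), ([], 61, true), ([18, 16, 12], 46, true), ([18, 16], 54, true), ([18], 61, true), ([], 63, true), ([16], 51, true), ([16], 56, false), ([], 65, false), ([20], 62, false), ([20, 16], 59, false), ([20, 16, 14], 47, false), ([20], 57, false), ([20, 14], 48, false), ([20], 63, false), ([20, 18], 58, false), ([20,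 18, 14], 49, false), ([20, 18, 14, 10], 31, false), ([], 64, false), ([18], 32, false), ([18], 51, false), ([18], 60, false), ([18, 16], 53, false), ([], 61, false), ([16], 54, false), ([], 65, false), ([20], 62, false), ([20, 16], 55, false), ([20, 16, 12], 33, false), ([20, 16], 56, false), ([20, 16, 14], 52, false), ([], 62, false), ([16], 59, false), ([16, 14], 55, false), ([16, 14, 12], 34, false), ([], 65, false), ([20], 62, false), ([20, 16], 59, false), ([20, 16, 14], 55, false), ([20, 16, 14, 12], 37, false), ([20, 16, 14, 12, 6], 0, false), ([20], 57, false), ([20, 14], 53, false), ([20], 63, false), ([20, 18], 58, false), ([20, 18, 14], 54, false), ([], 64, false), ([18], 59, false), ([18, 14], 55, false), ([18, 14, 12], 38, false), ([], 58, false), ([], 65, false), ([20], 59, false), ([20, 14], 40, false), ([], 41, false), ([], 60, false), ([16], 42, false), ([16,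 8], 3, false), ([16], 51, false), ([], 53, false), ([], 63, false), ([18], 54, false), ([], 65, false), ([20], 64, false), ([20, 18], 55, false), ([20, 18, 12], 4, false), ([20, 18], 56, false), ([20, 18, 14], 6, false), ([20, 18], 60, false), ([], 64, false), ([18], 62, false), ([18, 16], 7, false), ([], 8, false), ([0], 3, false)],
    [([24], 38, false), ([], 78, true), ([16, 14, 12, 8, 6, 2], 78, true), ([16, 14, 12, 8, 6], 18, true), ([16, 14, 12, 8], 37, true), ([16, 14, 12], 44, true), ([16, 14], 55, true), ([16], 59, true), ([], 62, true), ([20, 16, 14, 12, 8], 35, true), ([20, 16, 14, 12], 44, true), ([20, 16, 14], 55, true), ([20, 16], 59, true), ([20], 62, true), ([], 65, true), ([16, 14, 12], 42, true), ([16, 14], 53, true), ([16], 57, true), ([], 60, true), ([14, 12, 8, 6], 17, true), ([14, 12, 8], 36, true), ([14, 12], 43, true), ([14], 54, true), ([], 58, true),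 ([18, 14, 12, 8], 34, true), ([18, 14, 12], 44, true), ([18, 14], 55, true), ([18], 59, true), ([], 64, true), ([20, 18, 14, 12], 41, true), ([20, 18, 14], 55, true), ([20, 18], 59, true), ([20], 64, true), ([], 65, true), ([18, 14], 52, true), ([18], 56, true), ([18, 12, 8, 6], 16, true), ([18, 12, 8], 35, true), ([18, 12], 44, true), ([18], 55, true), ([], 64, true), ([20, 18, 12], 42, true), ([20, 18], 53, true), ([20, 18, 16, 12, 8], 33, true), ([20, 18, 16, 12], 44, true), ([20, 18, 16], 55, true), ([20, 18], 62, true), ([20], 64, true), ([], 65, true), ([18, 16, 12], 43, true), ([18, 16], 54, true), ([18], 61, true), ([], 63, true), ([16, 12], 42, true), ([16], 53, true), ([], 60, true), ([12], 40, true), ([], 55, true), ([20], 54, true), ([20, 18], 51, true), ([20, 18, 8, 6], 14, true), ([20, 18, 8], 37, true), ([20, 18], 44, true), ([20], 64, true), ([], 65, true),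 ([18, 8], 36, true), ([18], 43, true), ([], 63, true), ([8], 34, true), ([], 44, true), ([20], 41, true), ([], 65, true), ([14, 8], 31, true), ([14], 43, true), ([], 58, true), ([18, 14], 42, true), ([18], 57, true), ([18, 16, 14], 41, true), ([18, 16], 59, true), ([18], 62, true), ([], 64, true), ([20, 18, 16], 56, true), ([20, 18, 16], 38, true), ([20, 18], 62, true), ([20], 64, true), ([], 65, true), ([18], 61, true), ([], 63, true), ([], 60, true), ([6], 13, true), ([], 35, true), ([20, 16], 34, true), ([20], 62, true), ([], 65, true), ([16, 14], 33, true), ([16], 59, true), ([], 62, true), ([20, 16], 58, true), ([20], 61, true), ([20, 18, 16], 57, true), ([20, 18], 60, true), ([20, 18, 14, 12], 30, true), ([20, 18, 14], 55, true), ([20, 18], 59, true), ([20], 64, true), ([], 65, true), ([18, 14], 52, true), ([18], 56, true), ([18], 51, true), ([18, 10, 8], 11, true),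 ([18, 10], 43, true), ([18], 49, true), ([], 63, true), ([10], 42, true), ([], 48, true), ([16, 10], 39, true), ([16], 49, true), ([], 61, true), ([18, 16], 45, true), ([18], 60, true), ([18], 38, true), ([], 64, true), ([20], 63, true), ([20], 63, false), ([20, 18, 18], 82, false), ([20, 18], 83, false), ([], 84, false)],
    [([], 2, true), ([10, 8, 6, 4], 2, true), ([10, 8, 6], 24, true), ([10, 8], 35, true), ([10], 44, true), ([], 50, true), ([20, 10], 42, true), ([20], 48, true), ([20, 16, 10, 8], 34, true), ([20, 16, 10], 44, true), ([20, 16], 50, true), ([20], 62, true), ([], 65, true), ([16, 10], 41, true), ([16], 50, true), ([], 62, true), ([20, 16], 47, true), ([20], 62, true), ([], 65, true), ([16, 14, 10, 8], 32, true), ([16, 14, 10], 44, true), ([16, 14], 50, true), ([16], 59, true), ([], 62, true), ([20, 16, 14, 10], 41, true), ([20, 16, 14], 50, true), ([20,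 16], 59, true), ([20], 62, true), ([], 65, true), ([16, 14], 47, true), ([16], 59, true), ([], 62, true), ([20, 16], 56, true), ([20, 16, 10], 39, true), ([20, 16], 49, true), ([20], 61, true), ([20, 18, 16], 45, true), ([20, 18], 60, true), ([20, 18, 8, 6], 23, true), ([20, 18, 8], 37, true), ([20, 18], 44, true), ([20], 64, true), ([], 65, true), ([18, 8], 36, true), ([18], 43, true), ([], 63, true), ([8], 31, true), ([], 43, true), ([18], 42, true), ([18, 16], 41, true), ([18], 62, true), ([], 64, true), ([20, 18, 16, 14], 38, true), ([20, 18, 16], 59, true), ([20, 18], 62, true), ([20], 64, true), ([], 65, true), ([18, 16], 58, true), ([18], 61, true), ([], 63, true), ([16], 57, true), ([], 60, true), ([14, 6], 22, true), ([14], 37, true), ([], 59, true), ([20, 14], 35, true), ([20], 59, true), ([], 65, true), ([], 57, true), ([16, 14], 32, true), ([16], 59, true), ([],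 62, true), ([20, 16], 56, true), ([20, 16, 10], 31, true), ([20, 16], 49, true), ([20], 61, true), ([20, 18, 16], 48, true), ([20, 18], 60, true), ([20, 18], 47, true), ([20], 64, true), ([], 65, true), ([18, 14, 10, 8], 30, true), ([18, 14, 10], 44, true), ([18, 14], 50, true), ([18], 59, true), ([], 64, true), ([20, 18, 14, 10], 41, true), ([20, 18, 14], 50, true), ([20, 18], 59, true), ([20], 64, true), ([], 65, true), ([18, 14], 47, true), ([18], 59, true), ([], 64, true), ([20, 18], 56, true), ([20, 18, 10], 40, true), ([20, 18], 50, true), ([20], 64, true), ([], 65, true), ([18], 49, true), ([], 63, true), ([], 46, true), ([18, 12, 10], 39, true), ([18, 12], 49, true), ([18], 54, true), ([], 63, true), ([12], 45, true), ([], 53, true), ([16, 12], 38, true), ([16], 55, true), ([], 62, true), ([20, 16], 54, true), ([20], 61, true), ([20, 18, 16], 53, true), ([20, 18],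 60, true), ([20, 18, 12], 21, true), ([20, 18], 54, true), ([20], 63, true), ([20], 52, true), ([20], 60, false), ([20, 16], 57, false), ([20], 63, false), ([20, 18], 61, false), ([20, 18, 16], 58, false), ([], 64, false), ([18], 62, false), ([18, 16], 59, false), ([18, 16, 14], 4, false), ([], 65, false), ([20], 64, false), ([20, 18], 7, false), ([], 9, false), ([0], 21, false)],
    [([], 0, true), ([20, 14, 12, 10, 8], 12, true), ([20, 14, 12, 10], 44, true), ([20, 14, 12], 50, true), ([20, 14], 55, true), ([20], 59, true), ([], 65, true), ([14, 12, 10], 39, true), ([14, 12], 49, true), ([14], 54, true), ([], 58, true), ([18, 14, 12], 45, true), ([18, 14], 53, true), ([18], 57, true), ([], 61, false), ([16], 58, false), ([16, 14], 54, false), ([], 65, false), ([20], 62, false), ([20, 16], 59, false), ([20, 16, 14], 55, false), ([20, 16, 14, 12], 23, false), ([20], 57, false),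 ([20, 14], 53, false), ([20, 14, 12], 45, false), ([20], 52, false), ([], 55, false), ([12], 47, false), ([], 60, false), ([16], 53, false), ([16, 12], 48, false), ([16, 12, 10], 24, false), ([], 63, false), ([18], 61, false), ([18, 16], 46, false), ([18, 16], 56, false), ([], 65, false), ([20], 64, false), ([20, 18], 62, false), ([20, 18, 16], 59, false), ([20, 18, 16, 14], 47, false), ([20], 61, false), ([20, 16], 58, false), ([20, 16, 14], 49, false), ([], 62, false), ([16], 59, false), ([16, 14], 50, false), ([16, 14, 10], 25, false), ([], 65, false), ([20], 62, false), ([20, 16], 47, false), ([20], 63, false), ([20, 18], 61, false), ([20, 18, 16], 49, false), ([20, 18, 16, 10], 26, false), ([], 64, false), ([18], 62, false), ([18, 16], 50, false), ([18, 16, 10], 29, false), ([18, 16, 10, 4], 0, false), ([18], 48, false), ([], 49, false), ([], 65, false), ([20], 50, false),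 ([20, 10], 38, false), ([20], 63, false), ([20, 18], 39, false), ([20, 18], 51, false), ([20], 54, false), ([], 55, false), ([12], 40, false), ([], 56, false), ([14], 52, false), ([], 65, false), ([20], 59, false), ([20, 14], 55, false), ([20, 14, 12], 41, false), ([], 59, false), ([14], 55, false), ([14, 12], 44, false), ([14, 12, 8], 30, false), ([], 52, false), ([], 60, false), ([16], 53, false), ([], 63, false), ([18], 61, false), ([18, 16], 54, false), ([18, 16, 12], 31, false), ([18], 53, false), ([18, 12], 45, false), ([18], 56, false), ([18, 14], 52, false), ([], 65, false), ([20], 64, false), ([20, 18], 59, false), ([20, 18, 14], 55, false), ([20, 18, 14, 12], 47, false), ([], 64, false), ([18], 59, false), ([18, 14], 55, false), ([18, 14, 12], 50, false), ([18, 14, 12, 10], 32, false), ([18, 14, 12, 10, 6], 2, false), ([18], 60, false), ([18, 16], 57, false), ([18,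 16, 14], 53, false), ([18, 16, 14, 12], 48, false), ([], 61, false), ([16], 58, false), ([16, 14], 54, false), ([16, 14, 12], 49, false), ([], 65, false), ([20], 62, false), ([20, 16], 59, false), ([20, 16, 14], 55, false), ([20, 16, 14, 12], 50, false), ([20, 16, 14, 12, 10], 38, false), ([20], 63, false), ([20, 18], 61, false), ([20, 18, 16], 58, false), ([20, 18, 16, 14], 46, false), ([20], 61, false), ([20, 16], 58, false), ([20, 16, 14], 49, false), ([], 62, false), ([16], 59, false), ([16, 14], 50, false), ([16, 14, 10], 40, false), ([], 65, false), ([20], 62, false), ([20, 16], 47, false), ([], 62, false), ([16], 50, false), ([16, 10], 41, false), ([], 48, false), ([10], 42, false), ([10, 8], 3, false), ([], 51, false), ([], 63, false), ([18], 54, false), ([18, 12], 46, false), ([18], 60, false), ([18, 16], 53, false), ([18, 16, 12], 48, false), ([], 61, false), ([16],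 54, false), ([16, 12], 49, false), ([], 65, false), ([20], 62, false), ([20, 16], 55, false), ([20, 16, 12], 50, false), ([20, 16, 12, 10], 4, false), ([], 5, false), ([0], 2, false)]]
  vecs := [
    [0, 0, 0, 0, 0, 0, 0, 0, 0, 0, 0, 0, 0, 0, 0, 0, 0, 0, 0, 0, 0, 0, 0, 0, 0, 0, 0, 0, 0, 0, 0, 0, 0, 0, 0, 0, 0, 0, 0, 0, 0, 0, 0, 0, 0, 0, 0, 0, 1],
    [0, 0, 0, 0, 0, 0, 0, 0, 0, 0, 0, 0, 0, 0, 0, 0, 0, 0, 0, 0, 0, 0, 0, 0, 0, 0, 0, 0, 0, 0, 0, 0, 0, 0, 0, 0, 0, 0, 0, 0, 0, 0, 0, 0, 0, 0, 0, 0, 0, 0, 0, 0, 0, 0, 0, 0, 1, 0, 0, 0, 1, 0, 0, 0, 0, 0, 0, 0, 0, 0, 0, 0],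
    [0, 0, 0, 0, 0, 0, 0, 0, 0, 0, 0, 0, 0, 0, 0, 0, 0, 0, 0, 0, 0, 0, 0, 0, 0, 0, 0, 0, 0, 0, 0, 0, 0, 0, 0, 0, 0, 0, 0, 0, 0, 0, 1, 1, 1],
    [0, 0, 0, 0, 0, 0, 0, 0, 0, 0, 0, 0, 0, 0, 0, 0, 0, 0, 0, 0, 0, 0, 0, 0, 0, 0, 0, 0, 0, 0, 0, 0, 0, 0, 0, 0, 0, 0, 0, 0, 0, 0, 0, 0, 0, 0, 0, 0, 0, 0, 0, 0, 0, 0, 0, 0, 0, 0, 0, 0, 0, 1],
    [0, 0, 0, 0, 0, 0, 0, 0, 0, 0, 0, 0, 0, 0, 0, 0, 0, 0, 0, 0, 0, 0, 0, 0, 0, 0, 0, 0, 0, 0, 0, 0, 0, 0, 0, 0, 0, 0, 0, 0, 0, 0, 0, 0, 0, 0, 0, 0, 0, 0, 0, 0, 0, 0, 0, 0, 0, 0, 0, 0, 0, 0, 1],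
    [0, 0, 0, 0, 0, 0, 0, 0, 0, 0, 0, 0, 0, 0, 0, 0, 0, 0, 0, 0, 0, 0, 0, 0, 0, 0, 0, 0, 0, 0, 0, 0, 0, 0, 0, 0, 0, 0, 0, 0, 0, 0, 0, 0, 0, 0, 0, 0, 0, 0, 0, 0, 1, 0, 0, 0, 1],
    [0, 0, 0, 0, 0, 0, 0, 0, 0, 0, 0, 0, 0, 0, 0, 0, 0, 0, 0, 0, 0, 0, 0, 0, 0, 0, 0, 0, 0, 0, 0, 0, 0, 0, 0, 0, 0, 0, 0, 0, 0, 0, 0, 0, 0, 0, 0, 0, 0, 0, 0, 0, 0, 0, 0, 0, 0, 0, 0, 0, 0, 1, 0, 1],
    [0, 0, 0, 0, 0, 0, 0, 0, 0, 0, 0, 0, 0, 0, 0, 0, 0, 0, 0, 0, 0, 0, 0, 0, 0, 0, 0, 0, 0, 0, 0, 0, 0, 0, 0, 0, 0, 0, 0, 0, 0, 0, 0, 0, 0, 0, 0, 0, 0, 0, 0, 0, 0, 0, 0, 0, 0, 0, 0, 0, 0, 0, 0, 0, 1, 1],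
    [0, 0, 0, 0, 0, 0, 0, 0, 0, 0, 0, 0, 0, 0, 0, 0, 0, 0, 0, 0, 0, 0, 0, 0, 0, 0, 0, 0, 0, 0, 0, 0, 0, 0, 0, 0, 0, 0, 0, 0, 0, 0, 0, 0, 0, 0, 0, 0, 0, 0, 0, 0, 0, 1, 0, 0, 0, 0, 0, 0, 1],
    [0, 0, 0, 0, 0, 0, 0, 0, 0, 0, 0, 0, 0, 0, 0, 0, 0, 0, 0, 0, 0, 0, 0, 0, 0, 0, 0, 0, 0, 0, 0, 0, 0, 0, 0, 0, 0, 0, 0, 0, 0, 0, 0, 0, 0, 0, 0, 0, 0, 0, 0, 0, 0, 0, 0, 0, 0, 0, 1, 0, 0, 0, 0, 1],
    [0, 0, 0, 0, 0, 0, 0, 0, 0, 0, 0, 0, 0, 0, 0, 0, 0, 0, 0, 0, 0, 0, 0, 0, 0, 0, 0, 0, 0, 0, 0, 0, 0, 0, 0, 0, 0, 0, 0, 0, 0, 0, 0, 0, 0, 0, 0, 0, 0, 0, 0, 0, 0, 0, 0, 0, 0, 0, 0, 0, 0, 0, 1, 0, 0, 1],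
    [0, 0, 0, 0, 0, 0, 0, 0, 0, 0, 0, 0, 0, 0, 0, 0, 0, 0, 0, 0, 0, 0, 0, 0, 0, 0, 0, 0, 0, 0, 0, 0, 0, 0, 0, 0, 0, 0, 0, 0, 0, 0, 0, 0, 0, 0, 0, 0, 0, 0, 0, 0, 0, 0, 0, 0, 0, 0, 0, 1, 0, 0, 0, 0, 0, 1],
    [0, 0, 0, 0, 0, 0, 0, 0, 0, 0, 0, 0, 0, 0, 0, 0, 0, 0, 0, 0, 0, 0, 0, 0, 0, 0, 0, 0, 0, 0, 0, 0, 0, 0, 0, 0, 0, 0, 0, 0, 0, 0, 0, 0, 0, 0, 0, 0, 0, 0, 0, 0, 0, 0, 1, 0, 0, 0, 0, 0, 0, 0, 0, 1],
    [0, 0, 0, 0, 0, 0, 0, 0, 0, 0, 0, 0, 0, 0, 0, 0, 0, 0, 0, 0, 0, 0, 0, 0, 0, 0, 0, 0, 0, 0, 0, 0, 0, 0, 0, 0, 0, 0, 0, 0, 0, 0, 0, 0, 1, 0, 0, 0, 0, 0, 0, 0, 0, 0, 0, 0, 0, 0, 0, 1, 0, 0, 0, 0, 1],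
    [0, 0, 0, 0, 0, 0, 0, 0, 0, 0, 0, 0, 0, 0, 0, 0, 0, 0, 0, 0, 0, 0, 0, 0, 0, 0, 0, 0, 0, 0, 0, 0, 0, 0, 0, 0, 0, 0, 0, 0, 0, 0, 1, 0, 0, 0, 0, 0, 0, 1, 0, 0, 0, 0, 0, 0, 0, 0, 0, 0, 0, 0, 0, 1],
    [0, 0, 0, 0, 0, 0, 0, 0, 0, 0, 0, 0, 0, 0, 0, 0, 0, 0, 0, 0, 0, 0, 0, 0, 0, 0, 0, 0, 0, 0, 0, 0, 0, 0, 0, 0, 0, 0, 0, 0, 0, 0, 0, 0, 0, 0, 0, 0, 0, 1, 0, 0, 0, 1, 0, 0, 0, 0, 0, 0, 0, 0, 0, 1],
    [0, 0, 0, 0, 0, 0, 0, 0, 0, 0, 0, 0, 0, 0, 0, 0, 0, 0, 0, 0, 0, 0, 0, 0, 0, 0, 0, 0, 0, 0, 0, 0, 0, 0, 0, 0, 0, 0, 0, 0, 0, 0, 0, 0, 0, 0, 0, 0, 0, 0, 1, 0, 0, 0, 0, 0, 0, 1, 0, 0, 0, 0, 0, 0, 0, 1],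
    [0, 0, 0, 0, 0, 0, 0, 0, 0, 0, 0, 0, 0, 0, 0, 0, 0, 0, 0, 0, 0, 0, 0, 0, 0, 0, 0, 0, 0, 0, 0, 0, 0, 0, 0, 0, 0, 0, 0, 0, 0, 0, 0, 0, 1, 0, 0, 0, 0, 0, 1, 0, 0, 0, 0, 0, 0, 0, 0, 0, 0, 0, 1, 0, 1],
    [0, 0, 0, 0, 0, 0, 0, 0, 0, 0, 0, 0, 0, 0, 0, 0, 0, 0, 0, 0, 0, 0, 0, 0, 0, 0, 0, 0, 0, 0, 0, 0, 0, 0, 0, 0, 0, 1, 0, 0, 0, 0, 0, 0, 1, 0, 0, 0, 0, 0, 1],
    [0, 0, 0, 0, 0, 0, 0, 0, 0, 0, 0, 0, 0, 0, 0, 0, 0, 0, 0, 0, 0, 0, 0, 0, 0, 0, 0, 0, 0, 0, 0, 0, 0, 0, 0, 0, 0, 0, 0, 0, 0, 0, 0, 0, 0, 0, 0, 0, 0, 0, 0, 0, 0, 0, 0, 1, 0, 0, 1, 1],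
    [0, 0, 0, 0, 0, 0, 0, 0, 0, 0, 0, 0, 0, 0, 0, 0, 0, 0, 0, 0, 0, 0, 0, 0, 0, 0, 0, 0, 0, 0, 0, 0, 0, 0, 0, 0, 0, 0, 0, 0, 0, 0, 0, 0, 0, 0, 0, 0, 0, 0, 0, 0, 0, 0, 0, 0, 0, 1, 0, 1, 1, 0, 1, 0, 0, 1],
    [0, 0, 0, 0, 0, 0, 0, 0, 0, 0, 0, 0, 0, 0, 0, 0, 0, 0, 0, 0, 0, 0, 0, 1, 0, 0, 1, 0, 1, 0, 0, 0, 0, 0, 0, 0, 0, 0, 0, 0, 0, 0, 0, 0, 0, 0, 0, 0, 0, 0, 0, 0, 0, 0, 0, 0, 0, 0, 1, 1, 0, 0, 0, 1, 0, 1],
    [0, 0, 0, 0, 0, 0, 0, 0, 0, 0, 0, 0, 0, 0, 0, 0, 0, 0, 0, 0, 0, 0, 0, 0, 0, 0, 0, 0, 0, 1, 0, 0, 0, 0, 0, 0, 0, 0, 0, 0, 0, 0, 1, 0, 0, 0, 0, 0, 0, 0, 0, 0, 0, 0, 0, 0, 0, 1, 0, 0, 0, 1, 0, 0, 0, 1],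
    [0, 0, 0, 0, 0, 0, 0, 0, 0, 0, 0, 0, 0, 0, 0, 0, 0, 0, 0, 0, 1, 0, 0, 0, 0, 0, 0, 0, 0, 1, 0, 0, 0, 0, 0, 0, 0, 0, 0, 0, 0, 0, 0, 0, 0, 0, 0, 0, 0, 0, 0, 0, 0, 0, 0, 1, 0, 0, 0, 0, 0, 0, 0, 0, 1, 0, 0, 0, 0, 0, 0, 0, 0, 0, 0],
    [0, 0, 0, 0, 0, 0, 0, 0, 0, 0, 0, 0, 0, 0, 0, 0, 0, 0, 0, 0, 0, 0, 0, 0, 0, 0, 0, 0, 0, 0, 0, 0, 0, 0, 0, 0, 0, 0, 0, 0, 0, 0, 0, 0, 0, 0, 0, 0, 1, 1, 0, 0, 0, 0, 0, 0, 0, 0, 0, 0, 1, 1, 0, 1, 0, 0, 0, 0, 0, 0, 0, 0, 0, 0, 0, 0, 0, 0, 0, 0, 0, 0, 1],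
    [0, 0, 0, 0, 0, 0, 0, 0, 0, 0, 0, 0, 0, 0, 0, 0, 0, 0, 0, 0, 0, 0, 0, 0, 0, 0, 0, 1, 0, 0, 0, 0, 0, 0, 0, 0, 0, 0, 0, 0, 0, 0, 0, 0, 0, 0, 0, 1, 1, 0, 0, 0, 0, 0, 0, 0, 1, 1, 0, 1, 1],
    [0, 0, 0, 0, 0, 0, 0, 0, 0, 0, 0, 0, 0, 0, 0, 0, 0, 0, 0, 0, 0, 0, 0, 0, 0, 0, 0, 0, 0, 0, 0, 0, 0, 0, 0, 1, 0, 0, 0, 0, 0, 0, 0, 0, 0, 0, 0, 1, 0, 0, 1, 0, 0, 0, 0, 0, 1, 0, 0, 0, 0, 0, 0, 0, 0, 1],
    [0, 0, 0, 0, 0, 0, 0, 0, 0, 0, 0, 0, 0, 0, 0, 0, 0, 0, 0, 1, 0, 0, 0, 0, 0, 0, 0, 0, 0, 0, 0, 0, 0, 0, 0, 0, 1, 0, 0, 0, 0, 0, 0, 0, 0, 0, 0, 0, 0, 0, 0, 0, 0, 0, 1, 0, 0, 0, 1, 0, 0, 1, 0, 0, 0, 0, 0, 0, 0, 0, 0, 0, 0, 0, 0, 0, 0, 0, 0, 0, 0, 0, 0, 0],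
    [0, 0, 0, 0, 0, 0, 0, 0, 0, 0, 1, 0, 0, 0, 0, 0, 0, 0, 0, 1, 0, 0, 0, 0, 0, 0, 0, 0, 0, 0, 0, 0, 0, 0, 0, 0, 0, 0, 0, 0, 0, 0, 0, 1, 0, 0, 0, 0, 0, 1, 0, 0, 0, 0, 1, 0, 0, 0, 1, 0, 0, 0, 0, 0, 1, 1],
    [0, 0, 0, 0, 0, 0, 0, 0, 0, 0, 0, 0, 0, 0, 0, 0, 0, 0, 0, 0, 0, 0, 0, 0, 0, 0, 0, 0, 1, 0, 0, 0, 0, 0, 0, 0, 0, 0, 0, 0, 0, 1, 0, 0, 0, 0, 0, 0, 0, 0, 0, 0, 0, 0, 0, 0, 0, 0, 1, 1, 0, 0, 0, 1, 1],
    [0, 0, 0, 0, 0, 0, 0, 0, 0, 0, 0, 0, 0, 0, 0, 0, 0, 0, 0, 0, 0, 0, 0, 0, 0, 0, 0, 0, 0, 0, 0, 0, 0, 0, 0, 0, 0, 0, 0, 0, 0, 0, 0, 0, 0, 0, 0, 0, 0, 0, 0, 0, 0, 1, 1, 0, 0, 0, 0, 0, 0, 1, 0, 0, 0, 0, 0, 0, 0, 0, 0, 0, 0, 0, 0, 0, 0, 0, 0, 0, 0, 0, 0, 1],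
    [0, 0, 0, 0, 0, 0, 0, 0, 0, 0, 0, 0, 0, 0, 0, 0, 0, 0, 1, 0, 0, 0, 0, 0, 0, 0, 0, 1, 0, 1, 0, 0, 0, 0, 0, 0, 0, 0, 0, 0, 0, 0, 0, 0, 0, 0, 0, 0, 0, 0, 0, 0, 1, 0, 0, 0, 0, 0, 0, 0, 0, 1, 1, 0, 0, 1, 0, 0, 0, 0, 0, 0],
    [0, 0, 0, 0, 0, 0, 0, 0, 0, 0, 0, 0, 0, 0, 0, 0, 0, 0, 0, 0, 0, 0, 0, 0, 0, 0, 0, 0, 0, 0, 0, 0, 0, 0, 0, 0, 0, 0, 0, 0, 0, 0, 0, 0, 0, 0, 0, 0, 0, 0, 0, 1, 1, 1, 1, 0, 0, 1, 1, 0, 1, 1, 0, 1, 0, 0, 0, 0, 0, 0, 0, 0, 0, 0, 0, 0, 0, 0, 0, 0, 0, 0],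
    [0, 0, 0, 0, 0, 0, 0, 0, 0, 0, 0, 0, 0, 0, 0, 0, 0, 0, 0, 0, 0, 0, 0, 0, 0, 0, 0, 1, 1, 1, 0, 0, 0, 0, 0, 0, 0, 0, 0, 0, 0, 0, 0, 1, 1, 0, 0, 0, 0, 0, 0, 0, 0, 0, 0, 0, 0, 0, 0, 0, 0, 0, 0, 1, 0, 0],
    [0, 0, 0, 0, 0, 0, 0, 0, 1, 0, 0, 0, 0, 0, 0, 0, 0, 0, 0, 0, 0, 0, 0, 0, 0, 0, 0, 0, 0, 0, 0, 0, 0, 0, 0, 0, 0, 0, 0, 0, 0, 0, 0, 0, 0, 0, 1, 0, 1, 0, 1, 1, 0, 1, 1, 1, 0, 0, 0, 0, 1, 0, 1, 0, 0, 1],
    [0, 0, 0, 0, 0, 0, 0, 0, 0, 0, 0, 0, 0, 0, 0, 0, 0, 0, 0, 1, 0, 0, 0, 0, 0, 0, 0, 0, 0, 0, 0, 0, 0, 0, 0, 0, 0, 0, 0, 0, 0, 1, 0, 0, 0, 0, 0, 1, 0, 0, 1, 0, 0, 0, 0, 0, 0, 1, 1, 0, 0, 0, 0, 1, 0, 1],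
    [0, 0, 0, 0, 0, 0, 0, 0, 0, 0, 0, 0, 0, 0, 0, 0, 0, 0, 1, 0, 0, 0, 0, 0, 0, 0, 0, 0, 0, 0, 0, 0, 0, 0, 0, 0, 0, 0, 0, 0, 1, 0, 0, 0, 0, 0, 1, 0, 0, 1, 1, 0, 0, 1, 1, 0, 0, 0, 0, 0, 1, 0, 1, 1, 1],
    [0, 0, 0, 0, 0, 0, 0, 0, 0, 0, 0, 0, 0, 0, 0, 0, 0, 0, 0, 0, 0, 0, 0, 0, 0, 0, 1, 1, 0, 0, 0, 0, 0, 0, 0, 0, 0, 0, 0, 1, 0, 0, 0, 0, 0, 0, 0, 1, 0, 1, 0, 0, 0, 0, 0, 0, 1, 1, 1, 0, 1, 1, 0, 0, 0, 1],
    [0, 0, 0, 0, 0, 0, 0, 0, 0, 1, 0, 0, 0, 0, 0, 0, 0, 0, 1, 0, 0, 0, 0, 0, 0, 0, 0, 0, 0, 0, 0, 0, 0, 0, 0, 0, 0, 0, 0, 0, 0, 0, 1, 0, 1, 0, 0, 0, 1, 0, 1, 0, 0, 1, 0, 1, 0, 1, 0, 1, 0, 0, 1, 1, 0, 0],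
    [0, 0, 0, 0, 0, 0, 0, 0, 0, 0, 0, 0, 0, 0, 0, 0, 0, 0, 0, 0, 0, 0, 0, 0, 0, 0, 1, 0, 1, 1, 0, 0, 0, 0, 0, 0, 0, 0, 0, 0, 1, 0, 0, 0, 0, 0, 0, 0, 0, 0, 0, 0, 1, 0, 1, 0, 1, 0, 0, 0, 0, 0, 0, 1, 1, 1],
    [0, 0, 0, 0, 0, 0, 0, 0, 1, 0, 0, 0, 0, 0, 0, 0, 0, 1, 0, 0, 0, 0, 0, 0, 0, 0, 0, 0, 0, 0, 0, 0, 0, 0, 0, 0, 0, 0, 0, 0, 0, 0, 0, 0, 0, 0, 0, 0, 0, 0, 0, 0, 1, 1, 0, 1, 0, 1, 1, 1, 0, 1, 1, 0, 1],
    [0, 0, 0, 0, 0, 0, 0, 0, 0, 0, 0, 0, 0, 0, 0, 0, 0, 0, 0, 0, 0, 0, 0, 0, 0, 0, 0, 0, 0, 0, 0, 0, 0, 0, 0, 0, 0, 0, 0, 0, 0, 0, 0, 0, 0, 0, 1, 0, 1, 1, 0, 0, 0, 1, 1, 0, 0, 1, 0, 0, 0, 0, 0, 0, 0, 0, 0, 0, 0, 0, 0, 0, 0, 0, 0, 0, 0, 0, 0, 0, 0, 0, 0, 0, 1],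
    [0, 0, 0, 0, 0, 0, 0, 0, 0, 0, 0, 0, 0, 0, 1, 0, 0, 1, 0, 1, 0, 0, 0, 0, 1, 0, 0, 0, 0, 1, 0, 0, 0, 0, 0, 0, 0, 0, 0, 0, 0, 0, 0, 0, 0, 1, 0, 1, 1, 0, 1, 0, 0, 0, 0, 0, 0, 1, 0, 1, 1, 0, 1, 1, 0, 1],
    [0, 0, 0, 0, 0, 0, 0, 0, 0, 0, 0, 0, 0, 0, 1, 1, 0, 0, 1, 1, 0, 0, 0, 0, 0, 0, 0, 0, 0, 0, 0, 0, 0, 0, 0, 0, 0, 0, 0, 0, 0, 0, 0, 0, 0, 0, 0, 1, 0, 1, 1, 0, 0, 0, 0, 0, 1, 0, 1, 0, 0, 0, 1, 1, 1, 0],
    [0, 0, 0, 0, 0, 0, 0, 0, 0, 0, 0, 0, 0, 0, 0, 0, 0, 0, 0, 0, 0, 0, 0, 0, 0, 0, 0, 0, 0, 0, 0, 0, 0, 0, 1, 0, 0, 1, 0, 1, 0, 0, 0, 0, 0, 0, 1, 1, 0, 1, 1, 0, 0, 0, 1, 0, 1, 0, 0, 1, 0, 0, 0, 0, 0, 0],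
    [0, 0, 0, 0, 0, 0, 0, 0, 0, 0, 0, 0, 0, 0, 0, 0, 0, 0, 0, 0, 0, 0, 0, 0, 0, 0, 0, 0, 0, 0, 0, 1, 1, 1, 1, 0, 0, 1, 0, 0, 0, 0, 0, 0, 0, 0, 0, 1, 1, 1, 0, 0, 0, 1, 1, 0, 1, 1, 1, 0, 1, 1, 1, 1, 1, 0],
    [0, 0, 0, 0, 0, 0, 0, 1, 0, 0, 0, 0, 0, 0, 0, 0, 1, 0, 0, 0, 0, 0, 0, 0, 0, 0, 0, 0, 0, 0, 0, 0, 0, 0, 0, 0, 0, 0, 0, 0, 1, 0, 1, 0, 0, 0, 1, 0, 1, 1, 1, 0, 1, 1, 0, 0, 1, 1, 0, 1, 0, 0, 0, 1, 0, 0],
    [0, 0, 0, 0, 0, 0, 0, 0, 0, 0, 0, 0, 0, 0, 0, 0, 1, 1, 1, 0, 0, 0, 0, 0, 0, 0, 0, 0, 0, 0, 0, 1, 1, 0, 0, 1, 1, 0, 0, 0, 0, 0, 0, 0, 0, 0, 0, 1, 1, 1, 0, 1, 1, 1, 0, 0, 0, 1, 1, 1, 0, 0, 0, 1, 1, 0],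
    [0, 0, 0, 0, 1, 1, 0, 0, 1, 1, 0, 0, 0, 0, 0, 0, 0, 1, 1, 0, 1, 0, 0, 0, 0, 0, 0, 0, 0, 0, 0, 0, 0, 0, 0, 0, 0, 0, 0, 0, 0, 0, 0, 0, 0, 0, 1, 0, 1, 1, 1, 1, 0, 1, 0, 1, 1, 1, 1, 0, 0, 1, 1, 1, 0, 0],
    [0, 1, 0, 0, 1, 1, 1, 1, 0, 0, 1, 0, 0, 0, 0, 0, 0, 0, 0, 0, 0, 0, 0, 0, 0, 0, 0, 0, 0, 0, 0, 0, 0, 0, 0, 0, 0, 0, 0, 0, 0, 1, 1, 0, 1, 0, 1, 1, 0, 1, 1, 1, 1, 0, 0, 0, 1, 0, 0, 0, 0, 1, 0, 1, 0, 1],
    [0, 0, 0, 0, 0, 0, 0, 0, 0, 0, 0, 1, 1, 0, 0, 0, 0, 0, 0, 1, 1, 1, 0, 0, 1, 0, 0, 0, 1, 0, 0, 0, 0, 0, 0, 0, 0, 0, 1, 1, 0, 0, 1, 1, 0, 1, 0, 1, 1, 1, 0, 1, 0, 0, 0, 0, 1, 0, 1, 1, 0, 1, 0, 1, 0, 1, 0, 0, 0, 0, 0],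
    [0, 0, 0, 0, 0, 0, 0, 0, 0, 0, 0, 0, 0, 0, 0, 0, 0, 0, 0, 0, 0, 0, 0, 0, 0, 0, 0, 0, 0, 0, 0, 0, 0, 0, 0, 0, 0, 0, 1, 1, 1, 1, 0, 1, 1, 1, 1, 1, 0, 1, 1, 1, 1, 0, 1, 0, 1, 0, 1, 1, 1, 1, 1, 0, 0, 1, 0, 0, 0, 0, 0, 0, 0, 0],
    [0, 0, 0, 0, 0, 0, 0, 0, 0, 0, 0, 0, 0, 0, 0, 0, 0, 0, 0, 0, 0, 0, 0, 1, 1, 0, 0, 1, 0, 1, 0, 1, 0, 0, 1, 0, 1, 0, 1, 1, 0, 0, 1, 0, 1, 1, 0, 0, 1, 0, 0, 0, 0, 0, 0, 0, 1, 1, 0, 0, 1, 1, 1, 0, 1, 1],
    [0, 0, 0, 0, 0, 0, 1, 0, 1, 0, 1, 0, 0, 0, 0, 1, 0, 0, 0, 0, 0, 0, 0, 0, 0, 0, 0, 0, 0, 0, 0, 0, 0, 0, 0, 0, 0, 0, 0, 1, 0, 1, 0, 1, 1, 0, 1, 0, 0, 0, 1, 1, 1, 1, 0, 0, 0, 1, 1, 0, 1, 0, 1, 0, 1, 0],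
    [0, 0, 0, 0, 0, 0, 1, 0, 0, 0, 0, 0, 0, 0, 0, 0, 0, 1, 0, 0, 0, 0, 0, 0, 0, 1, 1, 1, 1, 0, 0, 0, 0, 0, 0, 0, 0, 0, 0, 0, 1, 0, 1, 1, 1, 0, 0, 0, 0, 0, 0, 0, 1, 1, 0, 0, 1, 0, 1, 1, 0, 0, 1, 0, 0, 1, 0, 0, 0, 0, 0, 0, 0, 0, 0, 0, 0, 0, 0, 0, 0, 0, 1],
    [0, 0, 0, 0, 0, 0, 0, 0, 0, 0, 0, 0, 0, 0, 0, 0, 0, 0, 0, 0, 0, 0, 0, 1, 1, 1, 1, 0, 0, 1, 0, 1, 1, 0, 0, 1, 0, 1, 1, 1, 0, 0, 0, 1, 1, 1, 0, 1, 1, 0, 1, 0, 1, 1, 1, 1, 0, 0, 0, 1, 0, 0, 0, 0, 0, 1],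
    [0, 0, 0, 0, 1, 0, 1, 1, 1, 0, 0, 0, 0, 1, 0, 0, 0, 0, 0, 0, 0, 0, 0, 0, 0, 0, 0, 0, 0, 0, 0, 1, 1, 1, 1, 0, 0, 1, 1, 0, 0, 0, 0, 0, 0, 0, 1, 0, 0, 0, 0, 1, 0, 0, 1, 0, 0, 1, 1, 1, 1, 1, 0, 0, 0, 1],
    [0, 0, 0, 0, 0, 0, 0, 0, 0, 0, 0, 1, 0, 1, 1, 0, 1, 1, 1, 0, 0, 0, 0, 0, 0, 0, 0, 0, 0, 0, 1, 1, 0, 0, 1, 1, 0, 0, 1, 1, 1, 1, 1, 1, 1, 1, 0, 0, 1, 0, 0, 0, 0, 1, 1, 0, 1, 1, 1, 1, 1, 0, 1, 0, 1, 0, 0, 0, 0, 0, 0, 0, 0, 0, 0, 0, 0, 0, 0, 0, 0, 0, 1, 1, 1],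
    [0, 0, 0, 0, 1, 0, 0, 1, 0, 1, 0, 0, 0, 0, 0, 0, 0, 0, 0, 0, 0, 0, 1, 1, 1, 0, 0, 0, 0, 0, 1, 0, 0, 0, 1, 0, 1, 0, 0, 0, 1, 0, 0, 0, 1, 0, 1, 0, 0, 0, 0, 0, 1, 0, 1, 1, 1, 1, 0, 1, 1, 1, 1, 0, 0, 0],
    [0, 0, 0, 1, 1, 1, 0, 0, 0, 0, 0, 0, 1, 0, 0, 0, 0, 0, 0, 0, 0, 0, 0, 1, 1, 1, 1, 0, 0, 1, 1, 1, 1, 0, 0, 0, 0, 0, 0, 0, 0, 0, 1, 0, 0, 1, 1, 1, 1, 1, 1, 0, 0, 1, 1, 0, 1, 1, 0, 0, 0, 1, 0, 0, 0, 0]]
  adj := [
    [0, 0, 0, 0, 0, 0, 0, 0, 0, 0, 0, 0, 0, 0, 0, 0, 0, 0, 0, 0, 0, 0, 0, 0, 0, 0, 0, 0, 0, 0, 0, 0, 0, 0, 0, 0, 0, 0, 0, 0, 0, 0, 0, 0, 0, 0, 0, 0, 0, 0, 0, 0, 0, 0, 0, 0, 0, 0, 0, 0, 0, 0, 0, 0, 0, 0, 0, 0, 0, 0, 0, 0, 0, 0, 0, 0, 0, 0, 0, 0, 0, 0, 0, 0, 0],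
    [1, 0, 0, 0, 1, 0, 1, 0, 0, 0, 0, 1, 0, 0, 0, 0, 0, 0, 0, 0, 0, 0, 0, 0, 0, 0, 0, 0, 0, 0, 0, 0, 0, 0, 0, 0, 0, 0, 0, 0, 0, 0, 0, 0, 0, 0, 0, 0, 0, 0, 0, 0, 0, 0, 0, 0, 0, 0, 0, 0, 0, 0, 0, 0, 0, 0, 0, 0, 0, 0, 0, 0, 0, 0, 0, 0, 0, 0, 0, 0, 0, 0, 0, 0, 0],
    [0, 0, 0, 0, 0, 0, 0, 0, 0, 0, 0, 0, 0, 0, 0, 0, 0, 0, 0, 0, 0, 0, 0, 0, 0, 0, 0, 0, 0, 0, 0, 0, 0, 0, 0, 0, 0, 0, 0, 0, 0, 0, 0, 0, 0, 0, 0, 0, 0, 0, 0, 0, 0, 0, 0, 0, 0, 0, 0, 0, 0, 0, 0, 0, 0, 0, 0, 0, 0, 0, 0, 0, 0, 0, 0, 0, 0, 0, 0, 0, 0, 0, 0, 0, 0],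
    [0, 1, 1, 0, 1, 1, 1, 0, 0, 1, 0, 1, 0, 0, 0, 0, 0, 0, 0, 0, 0, 0, 0, 0, 0, 0, 0, 0, 0, 0, 0, 0, 0, 0, 0, 0, 0, 0, 0, 0, 0, 0, 0, 0, 0, 0, 0, 0, 0, 0, 0, 0, 0, 0, 0, 0, 0, 0, 0, 0, 0, 0, 0, 0, 0, 0, 0, 0, 0, 0, 0, 0, 0, 0, 0, 0, 0, 0, 0, 0, 0, 0, 0, 0, 0],
    [0, 0, 0, 1, 0, 1, 1, 0, 0, 1, 0, 0, 0, 0, 0, 0, 0, 0, 0, 0, 0, 0, 0, 0, 0, 0, 0, 0, 0, 0, 0, 0, 0, 0, 0, 0, 0, 0, 0, 0, 0, 0, 0, 0, 0, 0, 0, 0, 0, 0, 0, 0, 0, 0, 0, 0, 0, 0, 0, 0, 0, 0, 0, 0, 0, 0, 0, 0, 0, 0, 0, 0, 0, 0, 0, 0, 0, 0, 0, 0, 0, 0, 0, 0, 0],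
    [0, 1, 0, 1, 1, 0, 0, 0, 0, 0, 0, 1, 0, 0, 0, 0, 0, 0, 0, 0, 0, 0, 0, 0, 0, 0, 0, 0, 0, 0, 0, 0, 0, 0, 0, 0, 0, 0, 0, 0, 0, 0, 0, 0, 0, 0, 0, 0, 0, 0, 0, 0, 0, 0, 0, 0, 0, 0, 0, 0, 0, 0, 0, 0, 0, 0, 0, 0, 0, 0, 0, 0, 0, 0, 0, 0, 0, 0, 0, 0, 0, 0, 0, 0, 0],
    [0, 1, 0, 0, 0, 1, 1, 0, 0, 0, 0, 0, 0, 0, 0, 0, 0, 0, 0, 0, 0, 0, 0, 0, 0, 0, 0, 0, 0, 0, 0, 0, 0, 0, 0, 0, 0, 0, 0, 0, 0, 0, 0, 0, 0, 0, 0, 0, 0, 0, 0, 0, 0, 0, 0, 0, 0, 0, 0, 0, 0, 0, 0, 0, 0, 0, 0, 0, 0, 0, 0, 0, 0, 0, 0, 0, 0, 0, 0, 0, 0, 0, 0, 0, 0],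
    [0, 0, 0, 0, 0, 0, 1, 0, 0, 0, 0, 0, 0, 0, 0, 0, 0, 0, 0, 0, 0, 0, 0, 0, 0, 0, 0, 0, 0, 0, 0, 0, 0, 0, 0, 0, 0, 0, 0, 0, 0, 0, 0, 0, 0, 0, 0, 0, 0, 0, 0, 0, 0, 0, 0, 0, 0, 0, 0, 0, 0, 0, 0, 0, 0, 0, 0, 0, 0, 0, 0, 0, 0, 0, 0, 0, 0, 0, 0, 0, 0, 0, 0, 0, 0],
    [0, 1, 0, 0, 0, 0, 1, 0, 0, 1, 0, 0, 0, 0, 0, 0, 0, 0, 0, 0, 0, 0, 0, 0, 0, 0, 0, 0, 0, 0, 0, 0, 0, 0, 0, 0, 0, 0, 0, 0, 0, 0, 0, 0, 0, 0, 0, 0, 0, 0, 0, 0, 0, 0, 0, 0, 0, 0, 0, 0, 0, 0, 0, 0, 0, 0, 0, 0, 0, 0, 0, 0, 0, 0, 0, 0, 0, 0, 0, 0, 0, 0, 0, 0, 0],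
    [0, 0, 0, 0, 1, 1, 0, 0, 0, 0, 0, 0, 0, 0, 0, 0, 0, 0, 0, 0, 0, 0, 0, 0, 0, 0, 0, 0, 0, 0, 0, 0, 0, 0, 0, 0, 0, 0, 0, 0, 0, 0, 0, 0, 0, 0, 0, 0, 0, 0, 0, 0, 0, 0, 0, 0, 0, 0, 0, 0, 0, 0, 0, 0, 0, 0, 0, 0, 0, 0, 0, 0, 0, 0, 0, 0, 0, 0, 0, 0, 0, 0, 0, 0, 0],
    [0, 0, 0, 0, 0, 0, 0, 0, 0, 1, 0, 0, 0, 0, 0, 0, 0, 0, 0, 0, 0, 0, 0, 0, 0, 0, 0, 0, 0, 0, 0, 0, 0, 0, 0, 0, 0, 0, 0, 0, 0, 0, 0, 0, 0, 0, 0, 0, 0, 0, 0, 0, 0, 0, 0, 0, 0, 0, 0, 0, 0, 0, 0, 0, 0, 0, 0, 0, 0, 0, 0, 0, 0, 0, 0, 0, 0, 0, 0, 0, 0, 0, 0, 0, 0]]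
  prf := [
    [],
    [],
    [],
    [],
    [],
    [],
    [],
    [(2, 1), (4, 1), (10, 1), (12, 1), (15, 1), (16, 1), (17, 1), (22, 1), (23, 1), (28, 1), (35, 1), (38, 1), (40, 1), (48, 1), (49, 1)],
    [(0, 1), (4, 1), (5, 1), (6, 1), (7, 1), (8, 1), (9, 1), (11, 1), (12, 1), (15, 1), (17, 1), (19, 1), (22, 1), (23, 1), (34, 1), (38, 1), (40, 1), (48, 1)],
    [],
    [(0, 1), (1, 1), (3, 1), (7, 1), (9, 1), (11, 1), (12, 1), (13, 1), (14, 1), (16, 1), (22, 1), (25, 1), (28, 1), (29, 1), (33, 1), (35, 1)],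
    [],
    [(0, 1), (3, 1), (4, 1), (5, 1), (6, 1), (8, 1), (10, 1), (11, 1), (12, 1), (13, 1), (14, 1), (15, 1), (16, 1), (19, 1), (22, 1), (25, 1), (29, 1), (30, 1), (31, 1), (34, 1), (35, 1), (36, 1), (38, 1), (40, 1), (41, 1), (43, 1), (45, 1), (47, 1), (49, 1), (51, 1), (52, 1), (53, 1), (54, 1), (56, 1), (57, 1), (59, 1)],
    [(0, 1), (3, 1), (4, 1), (5, 1), (6, 1), (7, 1), (10, 1), (11, 1), (12, 1), (13, 1), (17, 1), (18, 1), (20, 1), (21, 1), (23, 1), (24, 1), (25, 1), (27, 1), (28, 1), (29, 1), (32, 1), (34, 1), (36, 1), (39, 1), (42, 1), (43, 1), (45, 1), (46, 1), (47, 1), (48, 1), (53, 1), (54, 1), (55, 1), (56, 1)],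
    [(1, 1), (4, 1), (5, 1), (7, 1), (10, 1), (12, 1), (14, 1), (17, 1), (22, 1), (23, 1), (28, 1), (29, 1), (31, 1), (32, 1), (34, 1), (36, 1), (37, 1), (39, 1), (40, 1), (43, 1), (48, 1), (53, 1)],
    [(1, 1), (2, 1), (3, 1), (4, 1), (7, 1), (9, 1), (12, 1), (13, 1), (16, 1), (22, 1), (23, 1), (28, 1), (32, 1), (33, 1), (34, 1), (35, 1), (36, 1), (37, 1), (39, 1), (40, 1), (48, 1), (53, 1)],
    [(2, 1), (3, 1), (4, 1), (5, 1), (6, 1), (8, 1), (9, 1), (11, 1), (15, 1), (16, 1), (19, 1), (22, 1), (23, 1), (28, 1), (35, 1), (36, 1), (40, 1), (46, 1), (48, 1), (49, 1)],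
    [(0, 1), (1, 1), (3, 1), (6, 1), (9, 1), (10, 1), (12, 1), (13, 1), (15, 1), (16, 1), (22, 1), (23, 1), (34, 1), (38, 1), (48, 1)],
    [(0, 1), (7, 1), (9, 1), (10, 1), (11, 1), (13, 1), (14, 1), (15, 1), (16, 1), (19, 1), (38, 1)],
    [(0, 1), (1, 1), (2, 1), (6, 1), (7, 1), (16, 1), (22, 1), (25, 1), (29, 1), (33, 1), (35, 1)],
    [(6, 1), (7, 1), (8, 1), (9, 1), (10, 1), (14, 1), (15, 1), (19, 1), (20, 1), (22, 1), (23, 1)],
    [(0, 1), (4, 1), (9, 1), (10, 1), (13, 1), (17, 1), (18, 1), (19, 1), (21, 1), (22, 1), (24, 1), (27, 1), (28, 1), (29, 1), (30, 1), (31, 1), (34, 1), (39, 1), (41, 1), (43, 1), (45, 1), (46, 1), (48, 1), (50, 1), (51, 1), (52, 1), (53, 1), (55, 1), (56, 1), (57, 1), (59, 1)],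
    [(1, 1), (2, 1), (4, 1), (6, 1), (7, 1), (9, 1), (11, 1), (12, 1), (15, 1), (17, 1), (19, 1), (21, 1), (22, 1), (23, 1), (26, 1), (27, 1), (29, 1), (30, 1), (34, 1), (38, 1), (39, 1), (40, 1), (41, 1), (42, 1), (44, 1), (45, 1), (47, 1), (48, 1), (52, 1), (54, 1), (55, 1), (56, 1), (57, 1), (58, 1)],
    [(0, 1), (1, 1), (4, 1), (5, 1), (6, 1), (9, 1), (10, 1), (12, 1), (19, 1), (20, 1), (21, 1), (23, 1), (32, 1), (36, 1), (39, 1), (40, 1), (48, 1)],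
    [(0, 1), (2, 1), (4, 1), (8, 1), (10, 1), (12, 1), (15, 1), (16, 1), (17, 1), (18, 1), (20, 1), (21, 1), (23, 1), (24, 1), (27, 1), (28, 1), (33, 1), (39, 1), (40, 1), (46, 1), (47, 1), (48, 1), (49, 1), (51, 1), (54, 1), (55, 1)],
    [(0, 1), (2, 1), (4, 1), (5, 1), (9, 1), (10, 1), (14, 1), (15, 1), (19, 1), (22, 1), (23, 1), (24, 1), (31, 1), (34, 1), (39, 1), (48, 1), (54, 1)],
    [(2, 1), (4, 1), (7, 1), (8, 1), (9, 1), (10, 1), (12, 1), (13, 1), (16, 1), (20, 1), (23, 1), (31, 1), (32, 1), (33, 1), (36, 1), (38, 1), (39, 1), (40, 1), (48, 1)],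
    [(0, 1), (1, 1), (5, 1), (7, 1), (8, 1), (9, 1), (10, 1), (17, 1), (19, 1), (22, 1), (31, 1), (38, 1)],
    [(0, 1), (1, 1), (2, 1), (5, 1), (6, 1), (7, 1), (8, 1), (9, 1), (11, 1), (13, 1), (16, 1), (19, 1), (31, 1), (33, 1), (38, 1)],
    [(3, 1), (8, 1), (10, 1), (11, 1), (14, 1), (15, 1), (20, 1), (22, 1)],
    [(0, 1), (1, 1), (2, 1), (4, 1), (5, 1), (7, 1), (9, 1), (10, 1), (13, 1), (14, 1), (19, 1), (20, 1), (21, 1), (22, 1), (24, 1), (25, 1), (26, 1), (27, 1), (30, 1), (32, 1), (33, 1), (34, 1), (36, 1), (37, 1), (41, 1), (42, 1), (45, 1), (46, 1), (51, 1), (52, 1), (56, 1), (57, 1)],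
    [(2, 1), (3, 1), (4, 1), (5, 1), (7, 1), (9, 1), (10, 1), (11, 1), (12, 1), (13, 1), (17, 1), (24, 1), (28, 1), (31, 1), (35, 1), (36, 1), (37, 1), (38, 1), (39, 1), (44, 1), (46, 1), (47, 1), (49, 1), (52, 1), (54, 1), (55, 1)],
    [(1, 1), (2, 1), (3, 1), (4, 1), (6, 1), (9, 1), (10, 1), (11, 1), (13, 1), (14, 1), (16, 1), (17, 1), (20, 1), (22, 1), (24, 1), (25, 1), (26, 1), (27, 1), (29, 1), (31, 1), (32, 1), (33, 1), (34, 1), (35, 1), (37, 1), (38, 1), (39, 1), (40, 1), (44, 1), (52, 1), (54, 1), (55, 1)],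
    [(2, 1), (5, 1), (6, 1), (10, 1), (12, 1), (13, 1), (14, 1), (17, 1), (26, 1), (27, 1), (28, 1), (29, 1), (31, 1), (32, 1), (34, 1), (37, 1), (39, 1), (40, 1), (44, 1), (45, 1), (46, 1), (47, 1), (49, 1)],
    [(0, 1), (2, 1), (3, 1), (4, 1), (5, 1), (8, 1), (10, 1), (11, 1), (12, 1), (13, 1), (15, 1), (16, 1), (17, 1), (18, 1), (19, 1), (20, 1), (33, 1), (36, 1), (37, 1), (38, 1), (39, 1), (44, 1)],
    [(1, 1), (4, 1), (5, 1), (7, 1), (8, 1), (9, 1), (11, 1), (13, 1), (19, 1), (20, 1), (22, 1), (25, 1), (26, 1), (31, 1), (38, 1)],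
    [(0, 1), (1, 1), (2, 1), (3, 1), (6, 1), (7, 1), (9, 1), (12, 1), (16, 1), (22, 1), (25, 1), (27, 1), (29, 1), (33, 1), (35, 1)],
    [(7, 1), (10, 1), (17, 1), (18, 1)],
    [(0, 1), (1, 1), (2, 1), (3, 1), (4, 1), (6, 1), (7, 1), (12, 1), (16, 1), (18, 1), (21, 1), (24, 1), (27, 1), (29, 1), (31, 1), (32, 1), (35, 1), (36, 1), (39, 1), (40, 1), (42, 1), (43, 1), (46, 1), (47, 1), (49, 1), (53, 1), (54, 1), (55, 1)],
    [(0, 1), (2, 1), (3, 1), (4, 1), (7, 1), (10, 1), (11, 1), (12, 1), (15, 1), (17, 1), (23, 1), (25, 1), (31, 1), (32, 1), (33, 1), (36, 1), (37, 1), (38, 1), (39, 1), (40, 1), (48, 1)],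
    [(0, 1), (1, 1), (3, 1), (4, 1), (6, 1), (7, 1), (8, 1), (14, 1), (15, 1), (19, 1), (22, 1), (23, 1), (32, 1), (36, 1), (40, 1), (48, 1)],
    [(0, 1), (1, 1), (2, 1), (5, 1), (6, 1), (8, 1), (13, 1), (16, 1), (19, 1), (29, 1), (31, 1), (33, 1), (38, 1)],
    [(8, 1), (13, 1), (14, 1), (15, 1), (16, 1), (17, 1), (20, 1)],
    [(2, 1), (7, 1), (8, 1), (11, 1), (14, 1), (15, 1), (16, 1), (17, 1), (20, 1)],
    [(7, 1), (11, 1), (13, 1)],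
    [(1, 1), (3, 1), (6, 1), (7, 1), (8, 1), (10, 1), (12, 1), (13, 1), (15, 1), (17, 1), (18, 1), (19, 1), (20, 1), (21, 1), (22, 1), (23, 1), (24, 1), (27, 1), (32, 1), (35, 1), (36, 1), (37, 1), (42, 1), (43, 1), (46, 1), (47, 1), (48, 1), (49, 1), (51, 1), (53, 1), (54, 1), (55, 1)],
    [(1, 1), (4, 1), (7, 1), (8, 1), (9, 1), (10, 1), (12, 1), (13, 1), (15, 1), (20, 1), (22, 1), (23, 1), (32, 1), (38, 1), (40, 1), (48, 1)],
    [(5, 1), (7, 1), (8, 1), (9, 1), (13, 1), (16, 1), (19, 1), (22, 1), (25, 1), (31, 1), (38, 1)],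
    [(0, 1)],
    [(3, 1), (6, 1), (8, 1), (13, 1), (15, 1), (16, 1), (17, 1), (20, 1)],
    [(10, 1), (11, 1), (13, 1), (17, 1)],
    [(1, 1), (4, 1), (5, 1), (6, 1), (8, 1), (9, 1), (11, 1), (12, 1), (20, 1), (32, 1)],
    [(1, 1), (5, 1), (13, 1), (16, 1), (17, 1), (20, 1)],
    [(8, 1), (13, 1), (16, 1), (17, 1), (20, 1)],
    [(3, 1), (6, 1), (12, 1)],
    [(3, 1), (4, 1), (6, 1), (9, 1), (10, 1), (11, 1), (19, 1)],
    [(1, 1), (13, 1), (16, 1), (17, 1), (20, 1)],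
    [(4, 1), (11, 1), (13, 1), (16, 1), (17, 1)],
    [(3, 1), (6, 1), (9, 1)],
    [(4, 1), (10, 1), (11, 1)],
    [(13, 1), (16, 1), (17, 1), (20, 1)],
    [(3, 1)],
    [(4, 1)],
    [(3, 1), (6, 1)],
    [(4, 1), (7, 1), (10, 1)],
    [(4, 1), (10, 1)]]

/-- Certificate for the prime 3. -/
def certThree : Cert where
  l := 3
  n := 3
  ng := 6
  pw := [[], [], []]
  cj := [
    [[2, 1], [2]],
    [[2]],
    []]
  extra := [
    [6, 0, 7, 1, 5],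
    [6, 4, 7, 1, 1],
    [8, 2, 0, 9, 3, 5],
    [8, 4, 9, 3, 3, 5],
    [10, 2, 11, 1, 3, 5],
    [10, 4, 11, 1, 3, 5, 5]]
  syz := [
    [([6], 5, false), ([], 7, true), ([0, 0], 7, true), ([0, 0, 0, 0], 7, true), ([], 0, true), ([], 0, true)],
    [([], 0, true), ([2], 0, false), ([], 5, false), ([4, 4], 1, false), ([4], 2, false), ([], 2, false), ([0, 4], 1, false), ([0], 2, false), ([0, 0], 1, false)],
    [([8], 5, false), ([], 9, true), ([4, 2, 2], 9, true), ([4, 2, 2, 4, 2, 2], 9, true), ([4, 2], 4, true), ([4], 4, true), ([4, 4], 3, true), ([4, 4], 4, true), ([], 5, true), ([], 3, true)],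
    [([8], 4, false), ([8, 2], 2, false), ([], 8, true), ([4, 2], 9, true), ([4], 4, true), ([4, 4], 3, true), ([4, 4], 3, false), ([4], 4, false), ([4, 2], 4, false), ([4, 2, 2], 8, false), ([], 9, false)],
    [([10], 4, false), ([], 10, true), ([4, 2, 0], 11, true), ([4, 2], 2, true), ([4], 4, true), ([4, 4, 2], 2, true), ([4, 4], 4, true), ([], 5, true), ([2], 1, true), ([], 4, true), ([], 4, false), ([2], 1, false), ([], 5, false), ([4, 4], 4, false), ([4, 4, 2], 2, false), ([4, 4, 2, 0], 10, false), ([], 11, false)]]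
  vecs := [
    [2, 0, 0, 0, 0, 2, 0, 0],
    [0, 0, 0, 0, 0, 2],
    [0, 0, 0, 2, 0, 0, 0, 0, 0, 0],
    [0, 0, 2, 0, 1, 0, 0, 0, 0, 0],
    [0, 0, 1, 0, 0, 0, 0, 0, 0, 0, 0, 0]]
  adj := [
    [0, 0, 0, 0, 0, 0, 0, 0, 0, 0, 0, 0],
    [0, 0, 0, 0, 0, 0, 0, 0, 0, 0, 0, 0],
    [0, 1, 0, 0, 0, 0, 0, 0, 0, 0, 0, 0]]
  prf := [
    [(0, 2), (1, 1)],
    [],
    [(4, 1)],
    [(2, 2)],
    [(3, 1), (4, 1)],
    [(1, 2)]]

/-- Certificate for the prime 5. -/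
def certFive : Cert where
  l := 5
  n := 2
  ng := 3
  pw := [[], []]
  cj := [
    [[1]],
    []]
  extra := [
    [4, 0, 5, 1, 1, 1, 3, 3, 3],
    [4, 2, 5, 1, 3, 3, 3, 3]]
  syz := [
    [([4], 1, false), ([], 3, true), ([2, 2, 2, 0, 0, 0], 4, true), ([2, 2, 2, 0, 0], 1, true), ([2, 2, 2, 0], 1, true), ([2, 2, 2], 1, true), ([2, 2, 2, 2, 0, 0], 1, true), ([2, 2, 2, 2, 0], 1, true), ([2, 2, 2, 2], 1, true), ([], 2, true), ([0, 0], 1, true), ([0], 1, true), ([], 1, true), ([2, 0, 0], 1, true), ([2, 0], 1, true), ([2], 1, true), ([2], 1, false), ([], 1, false), ([], 2, false), ([2, 2, 2, 2], 1, false), ([2, 2, 2, 2, 0], 3, false), ([], 4, false)],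
    [([4], 0, false), ([], 3, true), ([2, 2, 2, 0, 0, 0], 3, true), ([2, 2, 2, 0, 0, 0, 2, 2, 2, 0, 0, 0], 3, true), ([2, 2, 2, 0, 0, 0, 2, 2, 2, 0, 0, 0, 2, 2, 2, 0, 0, 0], 3, true), ([2, 2, 2, 0, 0, 0, 2, 2, 2, 0, 0, 0, 2, 2, 2, 0, 0, 0, 2, 2, 2, 0, 0, 0], 3, true), ([2, 2, 2, 0, 0], 1, true), ([2, 2, 2, 0], 1, true), ([2, 2, 2], 1, true), ([2, 2, 2, 2, 0, 0], 1, true), ([2, 2, 2, 2, 0], 1, true), ([2, 2, 2, 2], 1, true), ([], 2, true), ([0, 0], 1, true), ([0], 1, true), ([], 1, true), ([2], 0, true), ([2], 1, true), ([2, 2], 1, true), ([2, 2, 2], 1, true), ([2, 2, 2, 2, 0, 0, 0], 1, true), ([2, 2, 2, 2, 0, 0], 1, true), ([2, 2, 2, 2, 0], 1, true), ([2, 2, 2, 2], 1, true), ([], 2, true), ([0, 0, 0], 1, true), ([0, 0], 1, true), ([0], 1, true), ([], 1, true), ([2, 0, 0, 0], 1, true), ([2, 0, 0], 1, true), ([2, 0], 1, true), ([2], 1, true), ([2, 2], 0, true), ([2, 2, 0], 1,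 true), ([2, 2], 1, true), ([2, 2, 2, 0], 1, true), ([2, 2, 2], 1, true), ([2, 2, 2, 2, 0], 1, true), ([2, 2, 2, 2], 1, true), ([], 2, true), ([], 0, true)],
    [([4], 2, false), ([], 4, true), ([2, 2, 2, 2, 0], 4, true), ([2, 2, 2, 2, 0, 2, 2, 2, 2, 0], 4, true), ([2, 2, 2, 2, 0, 2, 2, 2, 2, 0, 2, 2, 2, 2, 0], 4, true), ([2, 2, 2, 2, 0, 2, 2, 2, 2, 0, 2, 2, 2, 2, 0, 2, 2, 2, 2, 0], 4, true), ([2, 2, 2, 2], 1, true), ([], 2, true), ([], 1, true), ([2], 1, true), ([2, 2], 1, true), ([2, 2, 2, 0], 1, true), ([2, 2, 2], 1, true), ([2, 2, 2, 2, 0], 1, true), ([2, 2, 2, 2], 1, true), ([], 2, true), ([0], 1, true), ([], 1, true), ([2, 0], 1, true), ([2], 1, true), ([2, 2, 0, 0], 1, true), ([2, 2, 0], 1, true), ([2, 2], 1, true), ([2, 2, 2, 0, 0], 1, true), ([2, 2, 2, 0], 1, true), ([2, 2, 2], 1, true), ([2, 2, 2, 2, 0, 0], 1, true), ([2, 2, 2, 2, 0], 1, true), ([2, 2, 2, 2], 1,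 true), ([], 2, true), ([0, 0], 1, true), ([0], 1, true), ([], 1, true), ([2, 0, 0, 0], 1, true), ([2, 0, 0], 1, true), ([2, 0], 1, true), ([2], 1, true), ([2, 2, 0, 0, 0], 1, true), ([2, 2, 0, 0], 1, true), ([2, 2, 0], 1, true), ([2, 2], 1, true), ([2, 2, 2, 0, 0, 0], 1, true), ([2, 2, 2, 0, 0], 1, true), ([2, 2, 2, 0], 1, true), ([2, 2, 2], 1, true), ([2, 2, 2, 2, 0, 0, 0], 1, true), ([2, 2, 2, 2, 0, 0], 1, true), ([2, 2, 2, 2, 0], 1, true), ([2, 2, 2, 2], 1, true), ([], 2, true), ([], 0, true)]]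
  vecs := [
    [0, 3, 0, 0, 0],
    [2, 0, 3, 0],
    [1, 0, 3, 0, 0]]
  adj := [
    [0, 0, 0, 0, 0],
    [0, 0, 0, 0, 0]]
  prf := [
    [(1, 1), (2, 4)],
    [(0, 2)],
    [(1, 3), (2, 4)]]

end Cfsg.Agent.H34.SylCert.Tits
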