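import Cfsg.Prelude.Def_LieTwisted
import Cfsg.Agent.H34.SylCert.TitsData
import Cfsg.Agent.H34.SylCert.TitsMats

/-!
Coded 52 × 52 matrices over the field with two elements (52 columns of 52 bits) and the checks on
the data for the Tits group.
-/

set_option autoImplicit false

namespace Cfsg.Agent.H34.SylCert.Tits

open Cfsg.Lie

/-- Coordinate index set. -/
abbrev I52 : Type := chevF4.Idx

/-- Position of an index. -/
def pos : I52 → ℕ
  | Sum.inl i => i.val
  | Sum.inr r => 4 + r.val

/-- A column. -/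
noncomputable def getC (M j : ℕ) : ℕ :=
  Nat.land (Nat.shiftRight M (Nat.mul 52 j)) 4503599627370495

/-- Apply a coded matrix to a coded vector (unrolled for the kernel). -/
noncomputable def appC (M v : ℕ) : ℕ :=
    (Nat.xor (Nat.mul (Nat.land (Nat.shiftRight v 51) 1) (Nat.land (Nat.shiftRight M 2652) 4503599627370495))
    (Nat.xor (Nat.mul (Nat.land (Nat.shiftRight v 50) 1) (Nat.land (Nat.shiftRight M 2600) 4503599627370495))
    (Nat.xor (Nat.mul (Nat.land (Nat.shiftRight v 49) 1) (Nat.land (Nat.shiftRight M 2548) 4503599627370495))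
    (Nat.xor (Nat.mul (Nat.land (Nat.shiftRight v 48) 1) (Nat.land (Nat.shiftRight M 2496) 4503599627370495))
    (Nat.xor (Nat.mul (Nat.land (Nat.shiftRight v 47) 1) (Nat.land (Nat.shiftRight M 2444) 4503599627370495))
    (Nat.xor (Nat.mul (Nat.land (Nat.shiftRight v 46) 1) (Nat.land (Nat.shiftRight M 2392) 4503599627370495))
    (Nat.xor (Nat.mul (Nat.land (Nat.shiftRight v 45) 1) (Nat.land (Nat.shiftRight M 2340) 4503599627370495))
    (Nat.xor (Nat.mul (Nat.land (Nat.shiftRight v 44) 1) (Nat.land (Nat.shiftRight M 2288) 4503599627370495))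
    (Nat.xor (Nat.mul (Nat.land (Nat.shiftRight v 43) 1) (Nat.land (Nat.shiftRight M 2236) 4503599627370495))
    (Nat.xor (Nat.mul (Nat.land (Nat.shiftRight v 42) 1) (Nat.land (Nat.shiftRight M 2184) 4503599627370495))
    (Nat.xor (Nat.mul (Nat.land (Nat.shiftRight v 41) 1) (Nat.land (Nat.shiftRight M 2132) 4503599627370495))
    (Nat.xor (Nat.mul (Nat.land (Nat.shiftRight v 40) 1) (Nat.land (Nat.shiftRight M 2080) 4503599627370495))
    (Nat.xor (Nat.mul (Nat.land (Nat.shiftRight v 39) 1) (Nat.land (Nat.shiftRight M 2028) 4503599627370495))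
    (Nat.xor (Nat.mul (Nat.land (Nat.shiftRight v 38) 1) (Nat.land (Nat.shiftRight M 1976) 4503599627370495))
    (Nat.xor (Nat.mul (Nat.land (Nat.shiftRight v 37) 1) (Nat.land (Nat.shiftRight M 1924) 4503599627370495))
    (Nat.xor (Nat.mul (Nat.land (Nat.shiftRight v 36) 1) (Nat.land (Nat.shiftRight M 1872) 4503599627370495))
    (Nat.xor (Nat.mul (Nat.land (Nat.shiftRight v 35) 1) (Nat.land (Nat.shiftRight M 1820) 4503599627370495))
    (Nat.xor (Nat.mul (Nat.land (Nat.shiftRight v 34) 1) (Nat.land (Nat.shiftRight M 1768) 4503599627370495))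
    (Nat.xor (Nat.mul (Nat.land (Nat.shiftRight v 33) 1) (Nat.land (Nat.shiftRight M 1716) 4503599627370495))
    (Nat.xor (Nat.mul (Nat.land (Nat.shiftRight v 32) 1) (Nat.land (Nat.shiftRight M 1664) 4503599627370495))
    (Nat.xor (Nat.mul (Nat.land (Nat.shiftRight v 31) 1) (Nat.land (Nat.shiftRight M 1612) 4503599627370495))
    (Nat.xor (Nat.mul (Nat.land (Nat.shiftRight v 30) 1) (Nat.land (Nat.shiftRight M 1560) 4503599627370495))
    (Nat.xor (Nat.mul (Nat.land (Nat.shiftRight v 29) 1) (Nat.land (Nat.shiftRight M 1508) 4503599627370495))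
    (Nat.xor (Nat.mul (Nat.land (Nat.shiftRight v 28) 1) (Nat.land (Nat.shiftRight M 1456) 4503599627370495))
    (Nat.xor (Nat.mul (Nat.land (Nat.shiftRight v 27) 1) (Nat.land (Nat.shiftRight M 1404) 4503599627370495))
    (Nat.xor (Nat.mul (Nat.land (Nat.shiftRight v 26) 1) (Nat.land (Nat.shiftRight M 1352) 4503599627370495))
    (Nat.xor (Nat.mul (Nat.land (Nat.shiftRight v 25) 1) (Nat.land (Nat.shiftRight M 1300) 4503599627370495))
    (Nat.xor (Nat.mul (Nat.land (Nat.shiftRight v 24) 1) (Nat.land (Nat.shiftRight M 1248) 4503599627370495))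
    (Nat.xor (Nat.mul (Nat.land (Nat.shiftRight v 23) 1) (Nat.land (Nat.shiftRight M 1196) 4503599627370495))
    (Nat.xor (Nat.mul (Nat.land (Nat.shiftRight v 22) 1) (Nat.land (Nat.shiftRight M 1144) 4503599627370495))
    (Nat.xor (Nat.mul (Nat.land (Nat.shiftRight v 21) 1) (Nat.land (Nat.shiftRight M 1092) 4503599627370495))
    (Nat.xor (Nat.mul (Nat.land (Nat.shiftRight v 20) 1) (Nat.land (Nat.shiftRight M 1040) 4503599627370495))
    (Nat.xor (Nat.mul (Nat.land (Nat.shiftRight v 19) 1) (Nat.land (Nat.shiftRight M 988) 4503599627370495))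
    (Nat.xor (Nat.mul (Nat.land (Nat.shiftRight v 18) 1) (Nat.land (Nat.shiftRight M 936) 4503599627370495))
    (Nat.xor (Nat.mul (Nat.land (Nat.shiftRight v 17) 1) (Nat.land (Nat.shiftRight M 884) 4503599627370495))
    (Nat.xor (Nat.mul (Nat.land (Nat.shiftRight v 16) 1) (Nat.land (Nat.shiftRight M 832) 4503599627370495))
    (Nat.xor (Nat.mul (Nat.land (Nat.shiftRight v 15) 1) (Nat.land (Nat.shiftRight M 780) 4503599627370495))
    (Nat.xor (Nat.mul (Nat.land (Nat.shiftRight v 14) 1) (Nat.land (Nat.shiftRight M 728) 4503599627370495))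
    (Nat.xor (Nat.mul (Nat.land (Nat.shiftRight v 13) 1) (Nat.land (Nat.shiftRight M 676) 4503599627370495))
    (Nat.xor (Nat.mul (Nat.land (Nat.shiftRight v 12) 1) (Nat.land (Nat.shiftRight M 624) 4503599627370495))
    (Nat.xor (Nat.mul (Nat.land (Nat.shiftRight v 11) 1) (Nat.land (Nat.shiftRight M 572) 4503599627370495))
    (Nat.xor (Nat.mul (Nat.land (Nat.shiftRight v 10) 1) (Nat.land (Nat.shiftRight M 520) 4503599627370495))
    (Nat.xor (Nat.mul (Nat.land (Nat.shiftRight v 9) 1) (Nat.land (Nat.shiftRight M 468) 4503599627370495))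
    (Nat.xor (Nat.mul (Nat.land (Nat.shiftRight v 8) 1) (Nat.land (Nat.shiftRight M 416) 4503599627370495))
    (Nat.xor (Nat.mul (Nat.land (Nat.shiftRight v 7) 1) (Nat.land (Nat.shiftRight M 364) 4503599627370495))
    (Nat.xor (Nat.mul (Nat.land (Nat.shiftRight v 6) 1) (Nat.land (Nat.shiftRight M 312) 4503599627370495))
    (Nat.xor (Nat.mul (Nat.land (Nat.shiftRight v 5) 1) (Nat.land (Nat.shiftRight M 260) 4503599627370495))
    (Nat.xor (Nat.mul (Nat.land (Nat.shiftRight v 4) 1) (Nat.land (Nat.shiftRight M 208) 4503599627370495))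
    (Nat.xor (Nat.mul (Nat.land (Nat.shiftRight v 3) 1) (Nat.land (Nat.shiftRight M 156) 4503599627370495))
    (Nat.xor (Nat.mul (Nat.land (Nat.shiftRight v 2) 1) (Nat.land (Nat.shiftRight M 104) 4503599627370495))
    (Nat.xor (Nat.mul (Nat.land (Nat.shiftRight v 1) 1) (Nat.land (Nat.shiftRight M 52) 4503599627370495))
    (Nat.xor (Nat.mul (Nat.land (Nat.shiftRight v 0) 1) (Nat.land (Nat.shiftRight M 0) 4503599627370495))
    0))))))))))))))))))))))))))))))))))))))))))))))))))))

set_option maxRecDepth 8000 in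
theorem appC_eq (M v : ℕ) : appC M v = Nat.rec 0 (fun i acc =>
    Nat.xor (Nat.mul (Nat.land (Nat.shiftRight v i) 1) (getC M i)) acc) 52 := rfl

/-- Evaluate a number first. -/
def force {α : Sort*} (n : ℕ) (k : ℕ → α) : α :=
  match n with
  | 0 => k 0
  | m + 1 => k (m + 1)

lemma force_eq {α : Sort*} (n : ℕ) (k : ℕ → α) : force n k = k n := by cases n <;> rfl

/-- Check on all positions. -/
noncomputable def all52 (f : ℕ → Bool) : Bool := (List.range 52).all f

/-- Apply a list of coded matrices, the last first. -/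
noncomputable def imgList : List ℕ → ℕ → ℕ
  | [], v => v
  | M :: t, v => force (imgList t v) fun u => appC M u

/-- The code is that of the product of a list. -/
noncomputable def prodOK (L : List ℕ) (C : ℕ) : Bool :=
  all52 fun j => Nat.beq (getC C j) (imgList L (2 ^ j))

/-- The identity. -/
def oneC : ℕ := (List.range 52).foldr (fun j acc => 2 ^ (52 * j + j) + acc) 0

/-- Code of a root element. -/
noncomputable def xCode (p : ℕ × ZMod 2) : ℕ :=
  if p.2 = 0 then oneC
  else (((rootCodes.filter fun q => Nat.beq q.1 p.1).map fun q => q.2).headD 0)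

/-- The six generating words. -/
def genWords : List (List (ℕ × ZMod 2)) :=
  [f4PairWord 1 f4p1 f4p4 1, f4PairWord 1 f4m1 f4m4 1,
   b2ClassWord 1 f4a f4b f4ab f4aab 1 0, b2ClassWord 1 f4a f4b f4ab f4aab 0 1,
   b2ClassWord 1 f4ma f4mb f4mab f4maab 1 0, b2ClassWord 1 f4ma f4mb f4mab f4maab 0 1]

/-- Index at a position. -/
def idxOf (j : ℕ) : I52 :=
  if h : j < 4 then Sum.inl ⟨j, h⟩
  else if h' : j - 4 < 48 then Sum.inr ⟨j - 4, h'⟩ else Sum.inl ⟨0, by decide⟩

/-- The code of a root element is right. -/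
noncomputable def xOK (p : ℕ × ZMod 2) : Bool :=
  decide (p.2 = 0) || all52 fun b => (List.range 52).all fun a =>
    decide ((if (getC (xCode p) b).testBit a then (1 : ZMod 2) else 0)
      = chevF4.x (ZMod 2) p.1 p.2 (idxOf a) (idxOf b))

/-- Code of an element. -/
def elt (i : ℕ) : ℕ := (elements.getD i (0, 0, 0, false)).1

/-- Membership of the derived subgroup. -/
def flag (i : ℕ) : Bool := (elements.getD i (0, 0, 0, false)).2.2.2

/-- The data of an element are consistent. -/
noncomputable def elementOK (i : ℕ) : Bool :=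
  let e := elements.getD i (0, 0, 0, false)
  if i < 6 then !e.2.2.2 && prodOK ((genWords.getD i []).map xCode) e.1 &&
      prodOK [e.1, genInv.getD i 0] oneC
  else decide (1 ≤ e.2.1 ∧ e.2.1 ≤ i ∧ 1 ≤ e.2.2.1 ∧ e.2.2.1 ≤ i) &&
    prodOK [elt (e.2.1 - 1), elt (e.2.2.1 - 1)] e.1 &&
    (!e.2.2.2 || e.2.1 == e.2.2.1 || (flag (e.2.1 - 1) && flag (e.2.2.1 - 1)))

/-- Code of a letter. -/
def letter (P : List (ℕ × ℕ)) (x : ℕ) : ℕ :=
  if x % 2 == 0 then elt ((P.getD (x / 2) (0, 0)).1 - 1) else (P.getD (x / 2) (0, 0)).2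

/-- The letters lie in the derived subgroup, with inverses. -/
noncomputable def lettersOK (P : List (ℕ × ℕ)) : Bool :=
  (List.range P.length).all fun k =>
    decide (1 ≤ (P.getD k (0, 0)).1 ∧ (P.getD k (0, 0)).1 ≤ elements.length) &&
      flag ((P.getD k (0, 0)).1 - 1) && prodOK [letter P (2 * k), letter P (2 * k + 1)] oneC

/-- The relators are true. -/
noncomputable def relsOK (C : Cert) (P : List (ℕ × ℕ)) : Bool :=
  Nat.beq P.length C.ng && decide (C.n ≤ C.ng) &&
    C.rels.all fun w => (w.all fun x => decide (x < 2 * C.ng)) && prodOK (w.map (letter P)) oneC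

/-- A membership test evaluated by the kernel. -/
def memN (x : ℕ) : List ℕ → Bool
  | [] => false
  | y :: t => Nat.beq x y || memN x t

/-- The orbit separates generator `i` from the later ones. -/
noncomputable def orbitOK (C : Cert) (P : List (ℕ × ℕ)) (i : ℕ) (O : List ℕ) : Bool :=
  (O.all fun v => Nat.ble (v + 1) (2 ^ 52) &&
    (List.range (C.n - i - 1)).all fun d => memN (appC (letter P (2 * (i + 1 + d))) v) O) &&
  !O.isEmpty && Nat.ble (appC (letter P (2 * i)) (O.headD 0) + 1) (2 ^ 52) &&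
    !memN (appC (letter P (2 * i)) (O.headD 0)) O

/-- All orbits. -/
noncomputable def orbitsOK (C : Cert) (P : List (ℕ × ℕ)) (Os : List (List ℕ)) : Bool :=
  (List.range C.n).all fun i => orbitOK C P i (Os.getD i [])

end Cfsg.Agent.H34.SylCert.Tits
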